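import Cfsg.Agent.Lib.LyC3.Nodes62Kernel

/-!
The checks of the nodes, by evaluation in the kernel.
-/

set_option maxRecDepth 100000

namespace Cfsg.Agent.Lib.LyC3

open Cfsg.Agent.Lib.LyDC

theorem rMoves_all :
    rangeB (fun b => rangeB rMoves 1953 (Nat.mul b 1953)) 10 0 = true := by decide +kernel

theorem tokXOK_true : tokXOK = true := by decide +kernel

theorem node2_ok : nodeOK node2 gens2 = true := by decide +kernel

theorem node3_ok : nodeOK node3 gens3 = true := by decide +kernel

theorem node4_ok : nodeOK node4 gens4 = true := by decide +kernel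

end Cfsg.Agent.Lib.LyC3
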