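import Cfsg.Agent.Lib.LyC3.UKernel

/-!
The checks, by evaluation in the kernel.
-/

set_option maxRecDepth 100000

namespace Cfsg.Agent.Lib.LyC3

open Cfsg.Agent.Lib.LyDC

theorem fixComplete_all :
    rangeB (fun b => rangeB fixComplete 1953 (Nat.mul b 1953)) 10 0 = true := by decide +kernel

theorem x3_cube_all :
    rangeB (fun b => rangeB (fun p => Nat.beq (tabs.go (xW ++ xW ++ xW) p) p) 1953 (Nat.mul b 1953))
      10 0 = true := by decide +kernel

theorem fixListOK_true : fixListOK = true := by decide +kernel

theorem fixDistinct_all : rangeB fixDistinct 252 0 = true := by decide +kernel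

theorem commOK_all : rangeB commOK 3 0 = true := by decide +kernel

theorem genPairOK_all : rangeB genPairOK 3 0 = true := by decide +kernel

theorem transOK_all : rangeB transOK 252 0 = true := by decide +kernel

theorem orbOK_all : rangeB orbOK 125 0 = true := by decide +kernel

theorem stabOK_all : rangeB stabOK 12 0 = true := by decide +kernel

theorem swapOK_true : swapOK = true := by decide +kernel

theorem witOK_all : rangeB witOK 24 0 = true := by decide +kernel

theorem commutatorOK_true : commutatorOK = true := by decide +kernel

theorem conjOK_all : rangeB conjOK 3 0 = true := by decide +kernel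

theorem normAll_true : normAll = true := by decide +kernel

theorem classOK_all : rangeB classOK 200 0 = true := by decide +kernel

end Cfsg.Agent.Lib.LyC3
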