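import Mathlib
import Cfsg.Agent.Lib.LyDC.Bound
import Cfsg.Agent.Lib.LyC3.UChecks

/-!
The centraliser `U` of an element `x3` of order three in the group on 19530 points: it is transitive
on the 252 fixed points of `x3` and has order 378000; the conjugates of `x3` fixing point 0 are
conjugate under the stabiliser of point 0, where they form a class of 200.
-/

set_option autoImplicit false

namespace Cfsg.Agent.Lib.LyC3

open Cfsg.Agent.Lib.LyDC

/-- the element of order three -/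
noncomputable def x3 : Hbar := rep.ev xW

/-- its centraliser -/
noncomputable def U : Subgroup Hbar := Subgroup.centralizer {x3}

/-- the generators -/
noncomputable def ugen (k : ℕ) : Hbar := rep.ev (nth [] ugens k)

theorem mem_U {g : Hbar} : g ∈ U ↔ g * x3 = x3 * g := by
  rw [U, Subgroup.mem_centralizer_singleton_iff]

theorem x3_mem_U : x3 ∈ U := mem_U.2 rfl

theorem ugen_eq_one {k : ℕ} (hk : 3 ≤ k) : ugen k = 1 := by
  rw [ugen, nth_eq, List.getD_eq_default _ _ (by simpa [ugens] using hk)]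
  exact rep.ev_nil

theorem ugen_mem (hI : BaseInj) (k : ℕ) : ugen k ∈ U := by
  rcases lt_or_ge k 3 with hk | hk
  · have h := rangeB_spec commOK_all k (Nat.zero_le _) (by omega)
    have h' := rep.eq_of_same base_lt hI h
    rw [rep.ev_append, rep.ev_append] at h'
    exact mem_U.2 h'.symm
  · rw [ugen_eq_one hk]; exact one_mem _

theorem ev_catU_cons (k : ℕ) (l : List ℕ) : rep.ev (catU (k :: l)) = ugen k * rep.ev (catU l) :=
  rep.ev_append _ _

theorem catU_ind {P : Hbar → Prop} (h1 : P 1) (hmul : ∀ a b, P a → P b → P (a * b))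
    (hg : ∀ k, P (ugen k)) : ∀ l : List ℕ, P (rep.ev (catU l))
  | [] => h1
  | k :: l => by rw [ev_catU_cons]; exact hmul _ _ (hg k) (catU_ind h1 hmul hg l)

theorem catU_mem (hI : BaseInj) (l : List ℕ) : rep.ev (catU l) ∈ U :=
  catU_ind (P := (· ∈ U)) (one_mem _) (fun _ _ => mul_mem) (ugen_mem hI) l

/-- the transversal elements -/
noncomputable def trEl (i : ℕ) : Hbar := rep.ev (transW i)

/-- the orbit elements -/
noncomputable def orEl (i : ℕ) : Hbar := rep.ev (orbW i)

/-- the twenty-four elements -/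
noncomputable def stEl (k : ℕ) : Hbar := rep.ev (stabW k)

/-- the exchanging element -/
noncomputable def swEl : Hbar := rep.ev (catU swapU)

theorem fixList_facts : fixL.length = 252 ∧
    ∀ i < 252, fixAt i = fixL.getD i 0 ∧ fixAt i < 19530 := by
  have h := fixListOK_true
  unfold fixListOK at h
  rw [band_eq, Bool.and_eq_true, beqN_iff] at h
  refine ⟨h.1, fun i hi => ?_⟩
  have h' := rangeB_spec h.2 i (Nat.zero_le _) (by omega)
  simp only [band_eq, Bool.and_eq_true, beqN_iff, bltN_iff, nth_eq] at h'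
  exact h'

theorem fixAt_lt {i : ℕ} (hi : i < 252) : fixAt i < 19530 := (fixList_facts.2 i hi).2

theorem fix_complete {p : ℕ} (hp : p < 19530) (hx : rep.pt x3 p = p) :
    ∃ i < 252, fixAt i = p := by
  have h := rangeB_spec fixComplete_all (p / 1953) (Nat.zero_le _) (by omega)
  have h' := rangeB_spec h p
    (by show p / 1953 * 1953 ≤ p; omega) (by show p < p / 1953 * 1953 + 1953; omega)
  unfold fixComplete at h'
  have hb : Nat.beq (tabs.go xW p) p = true := beqN_iff.2 (by rw [rep.go_eq _ _ hp]; exact hx)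
  rw [hb] at h'
  obtain ⟨i, hi, hip⟩ := List.getElem_of_mem (memN_iff.1 h')
  have hi' : i < 252 := fixList_facts.1 ▸ hi
  refine ⟨i, hi', ?_⟩
  rw [(fixList_facts.2 i hi').1, List.getD_eq_getElem _ _ hi, hip]

theorem fixAt_inj {i j : ℕ} (hi : i < 252) (hj : j < 252) (h : fixAt i = fixAt j) : i = j := by
  have h' := rangeB_spec (rangeB_spec fixDistinct_all i (Nat.zero_le _) (by omega)) j
    (Nat.zero_le _) (by omega)
  rw [beqN_iff.2 h] at h'
  by_contra hne
  have : Nat.beq i j = false := Bool.eq_false_iff.2 fun e => hne (beqN_iff.1 e)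
  rw [this] at h'
  simp at h'

theorem fixAt_zero : fixAt 0 = 0 := by decide +kernel

theorem trEl_pt {i : ℕ} (hi : i < 252) : rep.pt (trEl i) 0 = fixAt i := by
  have h := rangeB_spec transOK_all i (Nat.zero_le _) (by omega)
  unfold transOK at h
  rw [beqN_iff, rep.go_eq _ _ (by omega)] at h
  exact h

theorem trEl_mem (hI : BaseInj) (i : ℕ) : trEl i ∈ U := catU_mem hI _

theorem orEl_mem (hI : BaseInj) (i : ℕ) : orEl i ∈ U := catU_mem hI _

theorem swEl_mem (hI : BaseInj) : swEl ∈ U := catU_mem hI _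

theorem stEl_lo {k : ℕ} (hk : k < 12) : stEl k = rep.ev (catU (nth [] stabU k)) := by
  show rep.ev (stabW k) = _
  unfold stabW
  rw [bltN_iff.2 hk]

theorem stEl_hi {k : ℕ} (hk : k < 12) : stEl (k + 12) = stEl k * swEl := by
  rw [stEl_lo hk]
  show rep.ev (stabW (k + 12)) = _
  unfold stabW
  have : Nat.blt (k + 12) 12 = false := Bool.eq_false_iff.2 fun e => by
    have := bltN_iff.1 e; omega
  rw [this]
  show rep.ev (catU (nth [] stabU (k + 12 - 12)) ++ catU swapU) = _
  rw [Nat.add_sub_cancel, rep.ev_append]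
  rfl

theorem stEl_mem (hI : BaseInj) {k : ℕ} (hk : k < 12) : stEl k ∈ U := by
  rw [stEl_lo hk]; exact catU_mem hI _

/-- the point of the second base index -/
theorem jPt_lt : jPt < 19530 := fixAt_lt (by decide)

theorem orEl_spec {i : ℕ} (hi : i < 125) :
    rep.pt (orEl i) 0 = 0 ∧ ∃ j < 252, j / 2 = i + 1 ∧ at16 orbI i = j ∧
      rep.pt (orEl i) jPt = fixAt j := by
  have h := rangeB_spec orbOK_all i (Nat.zero_le _) (by omega)
  unfold orbOK at h
  simp only [hold_eq, band_eq, Bool.and_eq_true, beqN_iff, bltN_iff] at h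
  rw [rep.go_eq _ _ (by omega), rep.go_eq _ _ jPt_lt] at h
  exact ⟨h.1, at16 orbI i, h.2.2.1, h.2.2.2, rfl, h.2.1⟩

theorem stEl_spec {k : ℕ} (hk : k < 12) : rep.pt (stEl k) 0 = 0 ∧ rep.pt (stEl k) jPt = jPt ∧
    ∀ l < 12, stEl k = stEl l → k = l := by
  have h := rangeB_spec stabOK_all k (Nat.zero_le _) (by omega)
  unfold stabOK at h
  simp only [band_eq, Bool.and_eq_true, beqN_iff] at h
  rw [rep.go_eq _ _ (by omega), rep.go_eq _ _ jPt_lt] at h
  refine ⟨h.1, h.2.1, fun l hl e => ?_⟩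
  have h' := rangeB_spec h.2.2 l (Nat.zero_le _) (by omega)
  by_contra hne
  have hf : Nat.beq k l = false := Bool.eq_false_iff.2 fun e => hne (beqN_iff.1 e)
  rw [hf] at h'
  have hkey : keyW (stabW k) = keyW (stabW l) := by
    unfold keyW
    rw [rep.mov_base base_lt, rep.mov_base base_lt]
    exact congrArg (fun g => List.rec (motive := fun _ => Nat) 0
      (fun p _ ih => Nat.add p (Nat.mul 65536 ih)) (rep.imgs g base)) e
  rw [beqN_iff.2 hkey] at h'
  simp at h'

/-- the stabiliser of point 0 in the centraliser -/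
noncomputable def U0 : Subgroup Hbar := U ⊓ rep.fixList [0]

theorem mem_fix0 {g : Hbar} : g ∈ rep.fixList [0] ↔ rep.pt g 0 = 0 :=
  ⟨fun h => h 0 (List.mem_singleton_self 0), fun h p hp => by rwa [List.mem_singleton.1 hp]⟩

theorem classL_spec (hI : BaseInj) {i : ℕ} (hi : i < 200) :
    rep.pt (rep.ev (nth [] classL i)) 0 = 0 ∧
      rep.ev (nth [] classY i) =
        (rep.ev (nth [] classL i))⁻¹ * x3 * rep.ev (nth [] classL i) ∧
      (i + 1 < 200 → keyW (nth [] classY i) < keyW (nth [] classY (i + 1))) := by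
  have h := rangeB_spec classOK_all i (Nat.zero_le _) (by omega)
  unfold classOK at h
  simp only [band_eq, Bool.and_eq_true, beqN_iff] at h
  rw [rep.go_eq _ _ (by omega)] at h
  refine ⟨h.1, ?_, fun hi1 => ?_⟩
  · have h' := rep.eq_of_same base_lt hI h.2.1
    rw [rep.ev_append, rep.ev_append] at h'
    show _ = _⁻¹ * rep.ev xW * _
    rw [mul_assoc, ← h', inv_mul_cancel_left]
  · have h' := h.2.2
    rw [bltN_iff.2 hi1] at h'
    exact bltN_iff.1 h'

theorem classY_inj (hI : BaseInj) {i j : ℕ} (hi : i < 200) (hj : j < 200)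
    (h : rep.ev (nth [] classY i) = rep.ev (nth [] classY j)) : i = j := by
  have hkey : keyW (nth [] classY i) = keyW (nth [] classY j) := by
    unfold keyW
    rw [rep.mov_base base_lt, rep.mov_base base_lt, h]
  have mono : ∀ b, ∀ a < b, b < 200 → keyW (nth [] classY a) < keyW (nth [] classY b) := by
    intro b
    induction b with
    | zero => intro a ha; omega
    | succ b ih =>
      intro a ha hb
      have hs := (classL_spec hI (i := b) (by omega)).2.2 hb
      rcases Nat.lt_succ_iff_lt_or_eq.1 ha with h1 | rfl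
      · exact (ih a h1 (by omega)).trans hs
      · exact hs
  rcases lt_trichotomy i j with h1 | h1 | h1
  · have := mono j i h1 hj; omega
  · exact h1
  · have := mono i j h1 hi; omega

/-- the map into the stabiliser of point 0 -/
theorem classMap (hI : BaseInj) : ∃ f : Fin 200 × U0 → (rep.fixList [0] : Subgroup Hbar),
    Function.Injective f ∧
      ∀ a, (f a : Hbar) = (a.2 : Hbar) * rep.ev (nth [] classL a.1) := by
  refine ⟨fun a => ⟨(a.2 : Hbar) * rep.ev (nth [] classL a.1),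
    mul_mem a.2.2.2 (mem_fix0.2 (classL_spec hI a.1.2).1)⟩, ?_, fun _ => rfl⟩
  rintro ⟨i, u⟩ ⟨j, v⟩ e
  have e' : (u : Hbar) * rep.ev (nth [] classL i) = (v : Hbar) * rep.ev (nth [] classL j) :=
    congrArg Subtype.val e
  have key : ∀ (i : Fin 200) (u : U0), rep.ev (nth [] classY i) =
      ((u : Hbar) * rep.ev (nth [] classL i))⁻¹ * x3 * ((u : Hbar) * rep.ev (nth [] classL i)) := by
    intro i u
    have hu : (u : Hbar) * x3 = x3 * u := mem_U.1 u.2.1
    rw [(classL_spec hI i.2).2.1, mul_inv_rev]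
    simp only [mul_assoc]
    rw [← mul_assoc x3 (u : Hbar), ← hu]
    simp [mul_assoc]
  have hij : i = j := Fin.ext (classY_inj hI i.2 j.2 (by rw [key i u, e', ← key j v]))
  subst hij
  exact Prod.ext rfl (Subtype.ext (mul_right_cancel e'))

theorem card_U0_le (hI : BaseInj) (hc : Nat.card Hbar ≤ 5859000000) : Nat.card U0 ≤ 1500 := by
  obtain ⟨f, hf, -⟩ := classMap hI
  have h := Nat.card_le_card_of_injective f hf
  rw [Nat.card_prod, Nat.card_fin] at h
  have := fix_zero_card_le hc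
  omega

theorem U0_map (hI : BaseInj) : ∃ f : Fin 12 × Fin 125 → U0, Function.Injective f ∧
    ∀ a, (f a : Hbar) = stEl a.1 * orEl a.2 := by
  refine ⟨fun a => ⟨stEl a.1 * orEl a.2, mul_mem (stEl_mem hI a.1.2) (orEl_mem hI _),
    mem_fix0.2 (by rw [rep.pt_mul, (stEl_spec a.1.2).1, (orEl_spec a.2.2).1])⟩, ?_, fun _ => rfl⟩
  rintro ⟨k, i⟩ ⟨l, j⟩ e
  have e' : stEl k * orEl i = stEl l * orEl j := congrArg Subtype.val e
  obtain ⟨-, a, ha, ha2, -, hap⟩ := orEl_spec i.2
  obtain ⟨-, b, hb, hb2, -, hbp⟩ := orEl_spec j.2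
  have hij : i = j := by
    have := congrArg (fun g => rep.pt g jPt) e'
    simp only [rep.pt_mul, (stEl_spec k.2).2.1, (stEl_spec l.2).2.1, hap, hbp] at this
    have := fixAt_inj ha hb this
    exact Fin.ext (by omega)
  subst hij
  exact Prod.ext (Fin.ext ((stEl_spec k.2).2.2 l l.2 (mul_right_cancel e'))) rfl

theorem card_U0 (hI : BaseInj) (hc : Nat.card Hbar ≤ 5859000000) : Nat.card U0 = 1500 := by
  obtain ⟨f, hf, -⟩ := U0_map hI
  have h := Nat.card_le_card_of_injective f hf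
  simp only [Nat.card_prod, Nat.card_fin] at h
  have := card_U0_le hI hc
  omega

theorem U0_cases (hI : BaseInj) (hc : Nat.card Hbar ≤ 5859000000) {g : Hbar} (hg : g ∈ U0) :
    ∃ k < 12, ∃ i < 125, g = stEl k * orEl i := by
  obtain ⟨f, hf, hfe⟩ := U0_map hI
  have hb : Function.Bijective f :=
    (Nat.bijective_iff_injective_and_card f).2 ⟨hf, by simp [card_U0 hI hc]⟩
  obtain ⟨a, ha⟩ := hb.2 ⟨g, hg⟩
  exact ⟨a.1, a.1.2, a.2, a.2.2, by rw [← hfe, ha]⟩

theorem U_pt {g : Hbar} (hg : g ∈ U) : ∃ i < 252, rep.pt g 0 = fixAt i := by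
  have hx0 : rep.pt x3 0 = 0 := by
    show rep.pt (rep.ev xW) 0 = 0
    rw [← rep.go_eq _ _ (by omega)]
    decide +kernel
  have hp : rep.pt g 0 < 19530 := rep.pt_lt g 0 (by omega)
  obtain ⟨i, hi, e⟩ := fix_complete hp (by rw [← rep.pt_mul, mem_U.1 hg, rep.pt_mul, hx0])
  exact ⟨i, hi, e.symm⟩

/-- every element is a stabiliser element times a transversal element -/
theorem U_decomp (hI : BaseInj) {g : Hbar} (hg : g ∈ U) :
    ∃ i < 252, ∃ c ∈ U0, g = c * trEl i := by
  obtain ⟨i, hi, e⟩ := U_pt hg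
  refine ⟨i, hi, g * (trEl i)⁻¹, ⟨U.mul_mem hg (U.inv_mem (trEl_mem hI i)), mem_fix0.2 ?_⟩,
    (inv_mul_cancel_right _ _).symm⟩
  rw [rep.pt_mul, e]
  exact rep.pt_inv (trEl_pt hi)

theorem U_ind (hI : BaseInj) (hc : Nat.card Hbar ≤ 5859000000) {P : Hbar → Prop} (h1 : P 1)
    (hmul : ∀ a b, P a → P b → P (a * b)) (hg : ∀ k, P (ugen k)) {g : Hbar} (h : g ∈ U) : P g := by
  obtain ⟨i, -, c, hcm, rfl⟩ := U_decomp hI h
  obtain ⟨k, hk, j, -, rfl⟩ := U0_cases hI hc hcm
  rw [stEl_lo hk]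
  exact hmul _ _ (hmul _ _ (catU_ind h1 hmul hg _) (catU_ind h1 hmul hg _))
    (catU_ind h1 hmul hg _)

/-- the centraliser has order 378000 -/
theorem card_U (hI : BaseInj) (hc : Nat.card Hbar ≤ 5859000000) : Nat.card U = 378000 := by
  let f : Fin 252 × U0 → U := fun a =>
    ⟨(a.2 : Hbar) * trEl a.1, mul_mem a.2.2.1 (trEl_mem hI _)⟩
  have hb : Function.Bijective f := by
    constructor
    · rintro ⟨i, u⟩ ⟨j, v⟩ e
      have e' : (u : Hbar) * trEl i = (v : Hbar) * trEl j := congrArg Subtype.val e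
      have := congrArg (fun g => rep.pt g 0) e'
      simp only [rep.pt_mul, mem_fix0.1 u.2.2, mem_fix0.1 v.2.2, trEl_pt i.2, trEl_pt j.2] at this
      obtain rfl : i = j := Fin.ext (fixAt_inj i.2 j.2 this)
      exact Prod.ext rfl (Subtype.ext (mul_right_cancel e'))
    · rintro ⟨g, hg⟩
      obtain ⟨i, hi, c, hcm, e⟩ := U_decomp hI hg
      exact ⟨(⟨i, hi⟩, ⟨c, hcm⟩), Subtype.ext e.symm⟩
  rw [← Nat.card_eq_of_bijective f hb, Nat.card_prod, Nat.card_fin, card_U0 hI hc]

/-- the centraliser is transitive on the fixed points of the element -/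
theorem U_trans (hI : BaseInj) {p : ℕ} (hp : p < 19530) (hx : rep.pt x3 p = p) :
    ∃ u ∈ U, rep.pt u 0 = p := by
  obtain ⟨i, hi, rfl⟩ := fix_complete hp hx
  exact ⟨trEl i, trEl_mem hI i, trEl_pt hi⟩

/-- the conjugates fixing point 0 are conjugate under the stabiliser of point 0 -/
theorem conj_fix0 (hI : BaseInj) {h : Hbar} (hy : rep.pt (h⁻¹ * x3 * h) 0 = 0) :
    ∃ l : Hbar, rep.pt l 0 = 0 ∧ h⁻¹ * x3 * h = l⁻¹ * x3 * l := by
  rw [rep.pt_mul, rep.pt_mul] at hy
  have hp : rep.pt h⁻¹ 0 < 19530 := rep.pt_lt _ 0 (by omega)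
  have hfix : rep.pt x3 (rep.pt h⁻¹ 0) = rep.pt h⁻¹ 0 := (rep.pt_inv hy).symm
  obtain ⟨u, hu, e⟩ := U_trans hI hp hfix
  refine ⟨u * h, ?_, ?_⟩
  · rw [rep.pt_mul, e, ← rep.pt_mul, inv_mul_cancel, rep.pt_one]
  · rw [mul_inv_rev]
    simp only [mul_assoc]
    rw [← mul_assoc x3 u, ← mem_U.1 hu]
    simp [mul_assoc]

/-- the class of the element under the stabiliser of point 0 -/
theorem classL_eq (hI : BaseInj) (hc : Nat.card Hbar ≤ 5859000000) {l : Hbar}
    (hl : rep.pt l 0 = 0) : ∃ i < 200, l⁻¹ * x3 * l = rep.ev (nth [] classY i) := by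
  obtain ⟨f, hf, hfe⟩ := classMap hI
  have hb : Function.Bijective f := by
    refine (Nat.bijective_iff_injective_and_card f).2 ⟨hf, ?_⟩
    have h1 := Nat.card_le_card_of_injective f hf
    have h2 := fix_zero_card_le hc
    rw [Nat.card_prod, Nat.card_fin, card_U0 hI hc] at h1 ⊢
    omega
  obtain ⟨⟨i, u⟩, ha⟩ := hb.2 ⟨l, mem_fix0.2 hl⟩
  refine ⟨i, i.2, ?_⟩
  have e : (u : Hbar) * rep.ev (nth [] classL i) = l := by rw [← hfe ⟨i, u⟩, ha]
  rw [(classL_spec hI i.2).2.1, ← e, mul_inv_rev]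
  have hu : (u : Hbar) * x3 = x3 * u := mem_U.1 u.2.1
  simp only [mul_assoc]
  rw [← mul_assoc x3 (u : Hbar), ← hu]
  simp [mul_assoc]

/-- the conjugates fixing point 0 are the 200 listed elements -/
theorem conj_fix0_list (hI : BaseInj) (hc : Nat.card Hbar ≤ 5859000000) {h : Hbar}
    (hy : rep.pt (h⁻¹ * x3 * h) 0 = 0) :
    ∃ i < 200, h⁻¹ * x3 * h = rep.ev (nth [] classY i) := by
  obtain ⟨l, hl, e⟩ := conj_fix0 hI hy
  obtain ⟨i, hi, e'⟩ := classL_eq hI hc hl
  exact ⟨i, hi, e.trans e'⟩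

end Cfsg.Agent.Lib.LyC3
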