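import Mathlib
import Cfsg.Agent.Lib.LyC3.UBasic

/-!
The only normal subgroups of the centraliser `U` containing `x3` are `zpowers x3` and `U`: the 126
pairs of fixed points are permuted doubly transitively with kernel `zpowers x3`, the stabiliser of a
pair normalises a group of order five, whose conjugates generate `U`, and it consists of commutators.
-/

set_option autoImplicit false

namespace Cfsg.Agent.Lib.LyC3

open Cfsg.Agent.Lib.LyDC

/-- pairs go to pairs -/
def Pairs (g : Hbar) : Prop :=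
  ∀ i < 252, ∃ j < 252, rep.pt g (fixAt i) = fixAt j ∧ rep.pt g (fixAt (i ^^^ 1)) = fixAt (j ^^^ 1)

theorem xor_one_spec : ∀ i < 252, i ^^^ 1 < 252 ∧ (i ^^^ 1) / 2 = i / 2 ∧
    ∀ j < 252, j / 2 = i / 2 → j = i ∨ j = i ^^^ 1 := by
  intro i hi
  have h : i ^^^ 1 = if i % 2 = 0 then i + 1 else i - 1 := by
    rcases Nat.even_or_odd i with ⟨k, rfl⟩ | ⟨k, rfl⟩
    · rw [if_pos (by omega)]
      exact Nat.xor_one_of_even ⟨k, rfl⟩
    · rw [if_neg (by omega)]
      exact Nat.xor_one_of_odd ⟨k, rfl⟩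
  rw [h]
  split_ifs with hp <;> exact ⟨by omega, by omega, fun j hj he => by omega⟩

theorem pairs_U (hI : BaseInj) (hc : Nat.card Hbar ≤ 5859000000) {g : Hbar} (hg : g ∈ U) :
    Pairs g := by
  refine U_ind hI hc (P := Pairs) (fun i hi => ⟨i, hi, rep.pt_one _, rep.pt_one _⟩) ?_ ?_ hg
  · intro a b ha hb i hi
    obtain ⟨j, hj, h1, h2⟩ := ha i hi
    obtain ⟨k, hk, h3, h4⟩ := hb j hj
    exact ⟨k, hk, by rw [rep.pt_mul, h1, h3], by rw [rep.pt_mul, h2, h4]⟩
  · intro k
    rcases lt_or_ge k 3 with hk | hk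
    · intro i hi
      have h := rangeB_spec (rangeB_spec genPairOK_all k (Nat.zero_le _) (by omega)) i
        (Nat.zero_le _) (by omega)
      simp only [hold_eq, band_eq, Bool.and_eq_true, beqN_iff, bltN_iff] at h
      rw [show i.xor 1 = i ^^^ 1 from rfl, rep.go_eq _ _ (fixAt_lt hi),
        rep.go_eq _ _ (fixAt_lt (xor_one_spec i hi).1)] at h
      exact ⟨at16 (nth 0 genP k) i, h.1, h.2.1, h.2.2⟩
    · rw [ugen_eq_one hk]
      exact fun i hi => ⟨i, hi, rep.pt_one _, rep.pt_one _⟩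

theorem image (hI : BaseInj) (hc : Nat.card Hbar ≤ 5859000000) {g : Hbar} (hg : g ∈ U) {i : ℕ}
    (hi : i < 252) : ∃ j < 252, rep.pt g (fixAt i) = fixAt j :=
  let ⟨j, hj, h, _⟩ := pairs_U hI hc hg i hi; ⟨j, hj, h⟩

theorem same_pair (hI : BaseInj) (hc : Nat.card Hbar ≤ 5859000000) {g : Hbar} (hg : g ∈ U)
    {i i' j j' : ℕ} (hi : i < 252) (hi' : i' < 252) (hj : j < 252) (hj' : j' < 252)
    (h : rep.pt g (fixAt i) = fixAt j) (h' : rep.pt g (fixAt i') = fixAt j')
    (he : i' / 2 = i / 2) : j' / 2 = j / 2 := by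
  obtain ⟨a, ha, h1, h2⟩ := pairs_U hI hc hg i hi
  have e1 := fixAt_inj hj ha (h.symm.trans h1)
  subst e1
  rcases (xor_one_spec i hi).2.2 i' hi' he with rfl | rfl
  · rw [fixAt_inj hj' hj (h'.symm.trans h)]
  · rw [fixAt_inj hj' (xor_one_spec j hj).1 (h'.symm.trans h2), (xor_one_spec j hj).2.1]

theorem orEl_zero : orEl 0 = 1 := by
  show rep.ev (catU (nth [] orbU 0)) = 1
  rw [show catU (nth [] orbU 0) = [] by decide +kernel]
  exact rep.ev_nil

theorem jIdx_pair : jIdx < 252 ∧ jIdx / 2 = 1 := by decide +kernel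

theorem orbI_zero : at16 orbI 0 = jIdx := by decide +kernel

theorem swEl_spec : rep.pt swEl 0 = fixAt 1 ∧ rep.pt swEl jPt = fixAt swapJ ∧
    swapJ < 252 ∧ swapJ / 2 = 1 := by
  have h := swapOK_true
  unfold swapOK at h
  simp only [band_eq, Bool.and_eq_true, beqN_iff, bltN_iff] at h
  rw [rep.go_eq _ _ (by omega), rep.go_eq _ _ jPt_lt] at h
  exact ⟨h.1, h.2.1, h.2.2.1, h.2.2.2.trans jIdx_pair.2⟩

/-- an element fixing both base points is one of the twelve -/
theorem two_fixed (hI : BaseInj) (hc : Nat.card Hbar ≤ 5859000000) {g : Hbar} (hg : g ∈ U)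
    (h0 : rep.pt g 0 = 0) {c : ℕ} (hc' : c < 252) (hj : rep.pt g jPt = fixAt c) (h1 : c / 2 = 1) :
    ∃ k < 12, g = stEl k := by
  obtain ⟨k, hk, i, hi, rfl⟩ := U0_cases hI hc (show g ∈ U0 from ⟨hg, mem_fix0.2 h0⟩)
  obtain ⟨-, a, ha, ha2, -, hap⟩ := orEl_spec hi
  rw [rep.pt_mul, (stEl_spec hk).2.1, hap] at hj
  have := fixAt_inj ha hc' hj
  obtain rfl : i = 0 := by omega
  exact ⟨k, hk, by rw [orEl_zero, mul_one]⟩

/-- the kernel of the action on the pairs -/
theorem pair_kernel (hI : BaseInj) (hc : Nat.card Hbar ≤ 5859000000) {g : Hbar} (hg : g ∈ U)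
    (hfix : ∀ i < 252, ∀ j < 252, rep.pt g (fixAt i) = fixAt j → j / 2 = i / 2) :
    ∃ e : ℕ, g = x3 ^ e := by
  have key : ∃ k < 24, g = stEl k := by
    obtain ⟨a, ha, ha0⟩ := U_pt hg
    have ha2 : a / 2 = 0 := hfix 0 (by omega) a ha (by rw [fixAt_zero]; exact ha0)
    obtain ⟨c, hc', hcp⟩ := image hI hc hg jIdx_pair.1
    have hc2 : c / 2 = 1 := (hfix _ jIdx_pair.1 c hc' hcp).trans jIdx_pair.2
    rcases (show a = 0 ∨ a = 1 by omega) with rfl | rfl
    · obtain ⟨k, hk, e⟩ := two_fixed hI hc hg (ha0.trans fixAt_zero) hc' hcp hc2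
      exact ⟨k, by omega, e⟩
    · obtain ⟨h0, hs, hs', hs2⟩ := swEl_spec
      have hm : g * swEl⁻¹ ∈ U := U.mul_mem hg (U.inv_mem (swEl_mem hI))
      have h0' : rep.pt (g * swEl⁻¹) 0 = 0 := by
        rw [rep.pt_mul, ha0]; exact rep.pt_inv h0
      have hsi := U.inv_mem (swEl_mem hI)
      obtain ⟨d, hd, hdp⟩ := image hI hc hsi hc'
      have hd2 : d / 2 = 1 :=
        (same_pair hI hc hsi hs' hc' jIdx_pair.1 hd (rep.pt_inv hs) hdp
          (hc2.trans hs2.symm)).trans jIdx_pair.2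
      obtain ⟨k, hk, e⟩ := two_fixed hI hc hm h0' hd
        (by rw [rep.pt_mul, show rep.pt g jPt = fixAt c from hcp, hdp]) hd2
      exact ⟨k + 12, by omega, by rw [stEl_hi hk, ← e, inv_mul_cancel_right]⟩
  obtain ⟨k, hk, rfl⟩ := key
  have h := rangeB_spec witOK_all k (Nat.zero_le _) (by omega)
  unfold witOK at h
  simp only [hold_eq] at h
  set e := (nth (0, 0, 0) witU k).1 with he
  set m := (nth (0, 0, 0) witU k).2.1 with hm
  set j := (nth (0, 0, 0) witU k).2.2 with hj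
  rcases Nat.lt_or_ge e 3 with h3 | h3
  · rw [bltN_iff.2 h3] at h
    refine ⟨e, ?_⟩
    have h' := rep.eq_of_same base_lt hI h
    refine h'.trans ?_
    clear h h' he h3
    induction e with
    | zero => exact rep.ev_nil
    | succ e ih =>
      show rep.ev (xW ++ repW xW e) = _
      rw [rep.ev_append, ih, pow_succ']
      rfl
  · rw [show Nat.blt e 3 = false from Bool.eq_false_iff.2 fun hb => by
      have := bltN_iff.1 hb; omega] at h
    simp only [band_eq, Bool.and_eq_true, beqN_iff, bltN_iff] at h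
    obtain ⟨hm126, hj252, hp, hne⟩ := h
    have hi : 2 * m < 252 := by omega
    rw [rep.go_eq _ _ (by exact fixAt_lt hi)] at hp
    have := hfix _ hi j hj252 hp
    rw [show Nat.beq (pairOf j) m = true from beqN_iff.2 (by show j / 2 = m; omega)] at hne
    simp at hne

theorem wU_mem (hI : BaseInj) : rep.ev (catU wU) ∈ U := catU_mem hI _

/-- normalising the group of the element of order five -/
def Normalises (g : Hbar) : Prop :=
  ∃ e : ℕ, SemiconjBy g (rep.ev (catU wU) ^ e) (rep.ev (catU wU))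

theorem Normalises.mul {a b : Hbar} (ha : Normalises a) (hb : Normalises b) :
    Normalises (a * b) := by
  obtain ⟨e, he⟩ := ha
  obtain ⟨f, hf⟩ := hb
  refine ⟨f * e, ?_⟩
  have h := hf.pow_right e
  rw [← pow_mul] at h
  exact he.mul_left h

/-- the element has order three -/
theorem orderOf_x3 : orderOf x3 = 3 := by
  have hne : rep.pt x3 2 ≠ 2 := by
    show rep.pt (rep.ev xW) 2 ≠ 2
    rw [← rep.go_eq _ _ (by omega)]
    decide +kernel
  have h3 : x3 ^ 3 = 1 := by
    apply Subtype.ext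
    apply perm_ext
    intro p hp
    show rep.pt (x3 ^ 3) p = rep.pt (1 : Hbar) p
    rw [rep.pt_one, ← show rep.ev (xW ++ xW ++ xW) = x3 ^ 3 by
      rw [rep.ev_append, rep.ev_append]; simp [x3, pow_succ], ← rep.go_eq _ _ hp]
    have h := rangeB_spec x3_cube_all (p / 1953) (Nat.zero_le _) (by omega)
    exact beqN_iff.1 (rangeB_spec h p
      (by show p / 1953 * 1953 ≤ p; omega) (by show p < p / 1953 * 1953 + 1953; omega))
  haveI : Fact (Nat.Prime 3) := ⟨Nat.prime_three⟩
  exact orderOf_eq_prime h3 fun e => hne (by rw [e, rep.pt_one])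

theorem ev_repW (u : List ℕ) : ∀ n : ℕ, rep.ev (repW u n) = rep.ev u ^ n
  | 0 => rep.ev_nil
  | n + 1 => by
    show rep.ev (u ++ repW u n) = _
    rw [rep.ev_append, ev_repW u n, pow_succ']

theorem normOK_spec (hI : BaseInj) {u : List ℕ} {e : ℕ} (h : normOK u e = true) :
    Normalises (rep.ev u) := by
  refine ⟨e, ?_⟩
  have h' := rep.eq_of_same base_lt hI h
  rw [rep.ev_append, rep.ev_append, ev_repW] at h'
  exact h'.symm

/-- the stabiliser of the first pair normalises the group of order five -/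
theorem pair_stab_normalises (hI : BaseInj) (hc : Nat.card Hbar ≤ 5859000000) {g : Hbar}
    (hg : g ∈ U) {a : ℕ} (ha0 : rep.pt g 0 = fixAt a) (ha : a < 2) : Normalises g := by
  have h := normAll_true
  unfold normAll at h
  simp only [band_eq, Bool.and_eq_true] at h
  have h0 : ∀ g ∈ U0, Normalises g := by
    intro g hg
    obtain ⟨k, hk, i, hi, rfl⟩ := U0_cases hI hc hg
    rw [stEl_lo hk]
    exact (normOK_spec hI (rangeB_spec h.1 k (Nat.zero_le _) (by omega))).mul
      (normOK_spec hI (rangeB_spec h.2.1 i (Nat.zero_le _) (by omega)))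
  rcases (show a = 0 ∨ a = 1 by omega) with rfl | rfl
  · exact h0 g ⟨hg, mem_fix0.2 (ha0.trans fixAt_zero)⟩
  · have := (h0 (g * swEl⁻¹) ⟨U.mul_mem hg (U.inv_mem (swEl_mem hI)), mem_fix0.2
      (by rw [rep.pt_mul, ha0]; exact rep.pt_inv swEl_spec.1)⟩).mul (normOK_spec hI h.2.2)
    rwa [show rep.ev (catU swapU) = swEl from rfl, inv_mul_cancel_right] at this

/-- the element of order three inside the centraliser -/
noncomputable def x3U : U := ⟨x3, x3_mem_U⟩

/-- normal subgroups of the centraliser containing the element of order three -/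
theorem normal_eq (hI : BaseInj) (hc : Nat.card Hbar ≤ 5859000000) (N : Subgroup U) [N.Normal]
    (hx : x3U ∈ N) : N = Subgroup.zpowers x3U ∨ N = ⊤ := by
  by_cases hall : ∀ n ∈ N, ∀ i < 252, ∀ j < 252,
      rep.pt (n : Hbar) (fixAt i) = fixAt j → j / 2 = i / 2
  · left
    refine le_antisymm (fun n hn => ?_) ((Subgroup.zpowers_le).2 hx)
    obtain ⟨e, he⟩ := pair_kernel hI hc n.2 (hall n hn)
    have : n = x3U ^ e := Subtype.ext (by rw [he]; simp [x3U])
    rw [this]
    exact pow_mem (Subgroup.mem_zpowers _) e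
  right
  push_neg at hall
  obtain ⟨n, hn, i, hi, j, hj, hij, hne⟩ := hall
  have conj : ∀ (g : U), ∀ m ∈ N, g⁻¹ * m * g ∈ N := fun g m hm => by
    simpa using Subgroup.Normal.conj_mem inferInstance m hm g⁻¹
  -- an element of N moving the first pair
  obtain ⟨n1, hn1, l, hl, hl0, hl2⟩ :
      ∃ n1 ∈ N, ∃ l < 252, rep.pt ((n1 : U) : Hbar) 0 = fixAt l ∧ l / 2 ≠ 0 := by
    let t : U := ⟨trEl i, trEl_mem hI i⟩
    refine ⟨(t⁻¹)⁻¹ * n * t⁻¹, conj t⁻¹ n hn, ?_⟩
    have ht : rep.pt (trEl i)⁻¹ (fixAt i) = fixAt 0 := by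
      rw [fixAt_zero]; exact rep.pt_inv (trEl_pt hi)
    obtain ⟨l, hl, hlp⟩ := image hI hc (U.inv_mem (trEl_mem hI i)) hj
    refine ⟨l, hl, ?_, fun h0 => hne ?_⟩
    · simp only [inv_inv, Subgroup.coe_mul, Subgroup.coe_inv, rep.pt_mul, t, trEl_pt hi, hij]
      exact hlp
    · have e0 : rep.pt (trEl i) (fixAt 0) = fixAt i := by rw [fixAt_zero]; exact trEl_pt hi
      have el : rep.pt (trEl i) (fixAt l) = fixAt j := by
        rw [← hlp, ← rep.pt_mul, inv_mul_cancel, rep.pt_one]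
      exact same_pair hI hc (trEl_mem hI i) (by omega) hl hi hj e0 el h0
  -- N is transitive on the pairs
  have trans_pairs : ∀ a < 252, a / 2 ≠ 0 →
      ∃ m ∈ N, ∃ b < 252, rep.pt ((m : U) : Hbar) 0 = fixAt b ∧ b / 2 = a / 2 := by
    intro a ha ha2
    obtain ⟨p0, p, hp, hp2, -, hpp⟩ := orEl_spec (i := l / 2 - 1) (by omega)
    obtain ⟨q0, q, hq, hq2, -, hqp⟩ := orEl_spec (i := a / 2 - 1) (by omega)
    let c : U := ⟨(orEl (l / 2 - 1))⁻¹ * orEl (a / 2 - 1),
      U.mul_mem (U.inv_mem (orEl_mem hI _)) (orEl_mem hI _)⟩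
    have hc0 : rep.pt (c : Hbar) 0 = 0 := by
      show rep.pt (_ * _) 0 = 0
      rw [rep.pt_mul, rep.pt_inv p0, q0]
    obtain ⟨b, hb, hbp⟩ := image hI hc c.2 hl
    refine ⟨c⁻¹ * n1 * c, conj c n1 hn1, b, hb, ?_, ?_⟩
    · simp only [Subgroup.coe_mul, Subgroup.coe_inv, rep.pt_mul, rep.pt_inv hc0, hl0, hbp]
    · have hcp : rep.pt (c : Hbar) (fixAt p) = fixAt q := by
        show rep.pt (_ * _) _ = _
        rw [rep.pt_mul, rep.pt_inv hpp, hqp]
      have := same_pair hI hc c.2 hp hl hq hb hcp hbp (by omega)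
      omega
  let π := QuotientGroup.mk' N
  let w : U := ⟨rep.ev (catU wU), wU_mem hI⟩
  have hπ : ∀ m ∈ N, π m = 1 := fun m hm => (QuotientGroup.eq_one_iff m).2 hm
  have conj_w : ∀ g : U, π (g⁻¹ * w * g) ∈ Subgroup.zpowers (π w) := by
    intro g
    obtain ⟨a, ha, hap⟩ := U_pt g.2
    obtain ⟨m, hm, hnorm⟩ : ∃ m ∈ N, Normalises ((g * m⁻¹ : U) : Hbar) := by
      by_cases ha2 : a / 2 = 0
      · exact ⟨1, one_mem _, by simpa using pair_stab_normalises hI hc g.2 hap (by omega)⟩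
      · obtain ⟨m, hm, b, hb, hbp, hb2⟩ := trans_pairs a ha ha2
        have hmi := U.inv_mem m.2
        obtain ⟨d, hd, hdp⟩ := image hI hc hmi ha
        have hd2 : d / 2 = 0 / 2 :=
          same_pair hI hc hmi hb ha (by omega) hd
            (by rw [fixAt_zero]; exact rep.pt_inv hbp) hdp hb2.symm
        exact ⟨m, hm, pair_stab_normalises hI hc (g * m⁻¹).2
          (by simp only [Subgroup.coe_mul, Subgroup.coe_inv, rep.pt_mul, hap]; exact hdp)
          (by omega)⟩
    obtain ⟨e, he⟩ := hnorm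
    have h1 : (g * m⁻¹) * w ^ e = w * (g * m⁻¹) := Subtype.ext (by simpa [w] using he.eq)
    have h2 := congrArg π h1
    simp only [map_mul, map_inv, map_pow, hπ m hm, inv_one, mul_one] at h2
    rw [map_mul, map_mul, map_inv, mul_assoc, ← h2, inv_mul_cancel_left]
    exact pow_mem (Subgroup.mem_zpowers _) e
  have cyc : ∀ g : U, π g ∈ Subgroup.zpowers (π w) := by
    intro g
    obtain ⟨u, hu, h⟩ := U_ind hI hc
      (P := fun g => ∃ u : U, (u : Hbar) = g ∧ π u ∈ Subgroup.zpowers (π w))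
      ⟨1, rfl, by simp⟩
      (fun a b ⟨u, hu, hu'⟩ ⟨v, hv, hv'⟩ => ⟨u * v, by rw [Subgroup.coe_mul, hu, hv],
        by rw [map_mul]; exact mul_mem hu' hv'⟩)
      (fun k => by
        rcases lt_or_ge k 3 with hk | hk
        · have h := rep.eq_of_same base_lt hI (rangeB_spec conjOK_all k (Nat.zero_le _) (by omega))
          rw [rep.ev_append, rep.ev_append] at h
          let v : U := ⟨rep.ev (catU (nth [] conjU k)), catU_mem hI _⟩
          refine ⟨v⁻¹ * w * v, ?_, conj_w v⟩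
          show (v : Hbar)⁻¹ * (w : Hbar) * (v : Hbar) = ugen k
          rw [mul_assoc]
          exact inv_mul_eq_of_eq_mul h.symm
        · exact ⟨1, (ugen_eq_one hk).symm, by simp⟩) g.2
    rwa [Subtype.ext hu] at h
  let p : U := ⟨rep.ev (catU pU), catU_mem hI _⟩
  let q : U := ⟨rep.ev (catU qU), catU_mem hI _⟩
  have hw : π w = 1 := by
    have h := rep.eq_of_same base_lt hI commutatorOK_true
    rw [rep.ev_append, rep.ev_append, rep.ev_append] at h
    have h1 : q * p * w = p * q := Subtype.ext h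
    have h2 := congrArg π h1
    simp only [map_mul] at h2
    obtain ⟨a, ha⟩ := Subgroup.mem_zpowers_iff.1 (cyc p)
    obtain ⟨b, hb⟩ := Subgroup.mem_zpowers_iff.1 (cyc q)
    rw [← ha, ← hb, ← zpow_add, ← zpow_add, add_comm b a] at h2
    exact mul_left_cancel (h2.trans (mul_one _).symm)
  refine (Subgroup.eq_top_iff' N).2 fun g => (QuotientGroup.eq_one_iff g).1 ?_
  have h := cyc g
  rw [hw, Subgroup.zpowers_one_eq_bot, Subgroup.mem_bot] at h
  exact h

end Cfsg.Agent.Lib.LyC3
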