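import Mathlib
import Cfsg.Agent.Lib.LyC3.UNormal
import Cfsg.Agent.Lib.LyC3.Nodes62Checks

/-!
The conjugates of the element of order three in the stabilisers of the five double cosets: one
class in each, with known centraliser orders.
-/

set_option autoImplicit false

namespace Cfsg.Agent.Lib.LyC3

open Cfsg.Agent.Lib.LyDC

/-- an element of order three lies in a conjugate of every Sylow 3-subgroup -/
theorem exists_conj_mem_of_orderOf_three {G : Type*} [Group G] [Finite G] (P : Subgroup G)
    (hP : Nat.card P = 3 ^ (Nat.card G).factorization 3) {y : G} (hy : orderOf y = 3) :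
    ∃ g : G, g * y * g⁻¹ ∈ P := by
  haveI : Fact (Nat.Prime 3) := ⟨Nat.prime_three⟩
  have hz : IsPGroup 3 (Subgroup.zpowers y) :=
    IsPGroup.of_card (n := 1) (by rw [Nat.card_zpowers, hy, pow_one])
  obtain ⟨Q, hQ⟩ := hz.exists_le_sylow
  obtain ⟨g, hg⟩ := MulAction.exists_smul_eq G Q (Sylow.ofCard P hP)
  refine ⟨g, ?_⟩
  have h1 : g * y * g⁻¹ ∈ (g • Q : Sylow 3 G).toSubgroup := by
    rw [Sylow.coe_subgroup_smul]
    exact ⟨y, hQ (Subgroup.mem_zpowers y), rfl⟩
  rw [hg] at h1
  exact h1

/-- the conjugates of `x3` in `S` form one class, through `h`, with stabiliser of order `d` in `U` -/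
def NodeSpec (S : Subgroup Hbar) (h : Hbar) (d : ℕ) : Prop :=
  h⁻¹ * x3 * h ∈ S ∧
    (∀ k : Hbar, k⁻¹ * x3 * k ∈ S → ∃ u ∈ U, ∃ s ∈ S, k = u * h * s) ∧
      Nat.card ↥(U ⊓ S.map (MulAut.conj h).toMonoidHom) = d

theorem mem_map_conj {S : Subgroup Hbar} {h u : Hbar} :
    u ∈ S.map (MulAut.conj h).toMonoidHom ↔ h⁻¹ * u * h ∈ S := by
  constructor
  · rintro ⟨s, hs, rfl⟩
    simpa [mul_assoc] using hs
  · exact fun hs => ⟨_, hs, by simp [mul_assoc]⟩

/-- node 0 -/
theorem nodeSpec_top (hI : BaseInj) (hc : Nat.card Hbar ≤ 5859000000) :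
    NodeSpec ⊤ 1 378000 := by
  refine ⟨Subgroup.mem_top _, fun k _ => ⟨1, one_mem _, k, Subgroup.mem_top _, by simp⟩, ?_⟩
  have : U ⊓ (⊤ : Subgroup Hbar).map (MulAut.conj (1 : Hbar)).toMonoidHom = U :=
    inf_eq_left.2 fun u _ => mem_map_conj.2 (Subgroup.mem_top _)
  rw [this, card_U hI hc]

theorem x3_pt_zero : rep.pt x3 0 = 0 := by
  show rep.pt (rep.ev xW) 0 = 0
  rw [← rep.go_eq _ _ (by omega)]
  decide +kernel

/-- node 1 -/
theorem nodeSpec_fix0 (hI : BaseInj) (hc : Nat.card Hbar ≤ 5859000000) :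
    NodeSpec (rep.fixList [0]) 1 1500 := by
  refine ⟨?_, fun k hk => ?_, ?_⟩
  · simpa using mem_fix0.2 x3_pt_zero
  · obtain ⟨l, hl, e⟩ := conj_fix0 hI (mem_fix0.1 hk)
    refine ⟨k * l⁻¹, mem_U.2 ?_, l, mem_fix0.2 hl, by simp⟩
    calc k * l⁻¹ * x3 = k * (l⁻¹ * x3 * l) * l⁻¹ := by group
      _ = k * (k⁻¹ * x3 * k) * l⁻¹ := by rw [e]
      _ = x3 * (k * l⁻¹) := by group
  · have : U ⊓ (rep.fixList [0]).map (MulAut.conj (1 : Hbar)).toMonoidHom = U0 := by
      refine le_antisymm (fun u hu => ⟨hu.1, by simpa using mem_map_conj.1 hu.2⟩)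
        (fun u hu => ⟨hu.1, mem_map_conj.2 (by simpa using hu.2)⟩)
    rw [this, card_U0 hI hc]

/-- increasing keys give distinct values -/
theorem eq_of_keys {n : ℕ} {f : ℕ → List ℕ}
    (hm : ∀ i, i + 1 < n → keyW (f i) < keyW (f (i + 1))) {i j : ℕ} (hi : i < n) (hj : j < n)
    (h : rep.ev (f i) = rep.ev (f j)) : i = j := by
  have hkey : keyW (f i) = keyW (f j) := by
    unfold keyW
    rw [rep.mov_base base_lt, rep.mov_base base_lt, h]
  have mono : ∀ b, ∀ a < b, b < n → keyW (f a) < keyW (f b) := by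
    intro b
    induction b with
    | zero => intro a ha; omega
    | succ b ih =>
      intro a ha hb
      rcases Nat.lt_succ_iff_lt_or_eq.1 ha with h1 | rfl
      · exact (ih a h1 (by omega)).trans (hm b hb)
      · exact hm a hb
  rcases lt_trichotomy i j with h1 | h1 | h1
  · have := mono j i h1 hj; omega
  · exact h1
  · have := mono i j h1 hi; omega

theorem r_moves {p : ℕ} (hp : p < 19530) : rep.pt (rep.ev rW) p ≠ p := fun e => by
  have h := rangeB_spec (rangeB_spec rMoves_all (p / 1953) (Nat.zero_le _) (by omega)) p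
    (by show p / 1953 * 1953 ≤ p; omega) (by show p < p / 1953 * 1953 + 1953; omega)
  unfold rMoves at h
  rw [beqN_iff.2 (by rw [rep.go_eq _ _ hp]; exact e)] at h
  simp at h

theorem conj_fixes (b : Hbar) : rep.pt (b⁻¹ * x3 * b) (rep.pt b 0) = rep.pt b 0 := by
  rw [rep.pt_mul, rep.pt_mul, rep.pt_inv (g := b) rfl, x3_pt_zero]

theorem catL_mem {gl : List (List ℕ)} {S : Subgroup Hbar} (hg : ∀ g ∈ gl, rep.ev g ∈ S) :
    ∀ l : List ℕ, rep.ev (catL gl l) ∈ S
  | [] => by show rep.ev [] ∈ S; rw [rep.ev_nil]; exact one_mem _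
  | k :: l => by
    show rep.ev (nth [] gl k ++ catL gl l) ∈ S
    rw [rep.ev_append]
    refine mul_mem ?_ (catL_mem hg l)
    rw [nth_eq]
    rcases Nat.lt_or_ge k gl.length with h | h
    · rw [List.getD_eq_getElem _ _ h]; exact hg _ (List.getElem_mem _)
    · rw [List.getD_eq_default _ _ h, rep.ev_nil]; exact one_mem _

theorem node_spec (hI : BaseInj) (D : NodeData) (gl : List (List ℕ)) (S : Subgroup Hbar)
    (hg : ∀ g ∈ gl, rep.ev g ∈ S) (hok : nodeOK D gl = true) (hcard : Nat.card S = D.ord)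
    (hp : D.pord = 3 ^ D.ord.factorization 3) (hk : 0 < D.k) :
    NodeSpec S (rep.ev D.h) D.d := by
  unfold nodeOK at hok
  simp only [band_eq, Bool.and_eq_true, beqN_iff] at hok
  obtain ⟨hh, hkd, hz, hP, hW, hC, hZ⟩ := hok
  set y := rep.ev (yW D gl) with hy
  set h := rep.ev D.h with hhdef
  have hyh : h⁻¹ * x3 * h = y := by
    have e := rep.eq_of_same base_lt hI hh
    rw [rep.ev_append, rep.ev_append] at e
    calc h⁻¹ * x3 * h = h⁻¹ * (rep.ev xW * rep.ev D.h) := mul_assoc _ _ _
      _ = h⁻¹ * (h * y) := by rw [← e]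
      _ = y := inv_mul_cancel_left _ _
  have hyS : y ∈ S := catL_mem hg _
  have key : ∀ u : Hbar, h⁻¹ * u * h * y = y * (h⁻¹ * u * h) ↔ u * x3 = x3 * u := by
    intro u
    rw [← hyh]
    constructor
    · intro e
      have e2 := congrArg (fun t => h * t * h⁻¹) e
      simpa [mul_assoc] using e2
    · intro e
      have e2 := congrArg (fun t => h⁻¹ * t * h) e
      simpa [mul_assoc] using e2
  -- the centraliser and the class
  let Z : Subgroup Hbar := S ⊓ Subgroup.centralizer {y}
  have memZ : ∀ {g : Hbar}, g ∈ Z ↔ g ∈ S ∧ g * y = y * g := fun {g} => by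
    simp only [Z, Subgroup.mem_inf, Subgroup.mem_centralizer_singleton_iff]
  have hcent : ∀ i < D.d, rep.ev (catL gl (nth [] D.cent i)) ∈ Z := by
    intro i hi
    have h' := rangeB_spec hZ i (Nat.zero_le _) (by omega)
    unfold centOK at h'
    rw [band_eq, Bool.and_eq_true] at h'
    have e := rep.eq_of_same base_lt hI h'.1
    rw [rep.ev_append, rep.ev_append] at e
    exact memZ.2 ⟨catL_mem hg _, e.symm⟩
  have hd : D.d ≤ Nat.card Z := by
    let f : Fin D.d → Z := fun i => ⟨_, hcent i i.2⟩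
    have hf : Function.Injective f := fun i j e => Fin.ext <| eq_of_keys
      (f := fun i => catL gl (nth [] D.cent i)) (n := D.d) (fun i hi => by
        have h' := rangeB_spec hZ i (Nat.zero_le _) (by omega)
        unfold centOK at h'
        rw [band_eq, Bool.and_eq_true] at h'
        have h2 := h'.2
        rw [bltN_iff.2 hi] at h2
        exact bltN_iff.1 h2) i.2 j.2 (congrArg Subtype.val e)
    simpa using Nat.card_le_card_of_injective f hf
  have hcls : ∀ i < D.k, rep.ev (nth [] D.clsY i) =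
      (rep.ev (catL gl (nth [] D.clsS i)))⁻¹ * y * rep.ev (catL gl (nth [] D.clsS i)) := by
    intro i hi
    have h' := rangeB_spec hC i (Nat.zero_le _) (by omega)
    unfold clsOK at h'
    rw [band_eq, Bool.and_eq_true] at h'
    have e := rep.eq_of_same base_lt hI h'.1
    rw [rep.ev_append, rep.ev_append] at e
    rw [mul_assoc, ← e, inv_mul_cancel_left]
  have hcardZ : Nat.card Z = D.d := by
    let f : Fin D.k × Z → S := fun a => ⟨(a.2 : Hbar) * rep.ev (catL gl (nth [] D.clsS a.1)),
      S.mul_mem a.2.2.1 (catL_mem hg _)⟩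
    have hf : Function.Injective f := by
      rintro ⟨i, u⟩ ⟨j, v⟩ e
      have e' : (u : Hbar) * rep.ev (catL gl (nth [] D.clsS i)) =
          (v : Hbar) * rep.ev (catL gl (nth [] D.clsS j)) := congrArg Subtype.val e
      have kk : ∀ (i : Fin D.k) (u : Z), rep.ev (nth [] D.clsY i) =
          ((u : Hbar) * rep.ev (catL gl (nth [] D.clsS i)))⁻¹ * y *
            ((u : Hbar) * rep.ev (catL gl (nth [] D.clsS i))) := by
        intro i u
        rw [hcls i i.2, mul_inv_rev]
        simp only [mul_assoc]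
        rw [← mul_assoc y (u : Hbar), ← (memZ.1 u.2).2]
        simp [mul_assoc]
      have hij : i = j := Fin.ext <| eq_of_keys (f := fun i => nth [] D.clsY i) (n := D.k)
        (fun i hi => by
          have h' := rangeB_spec hC i (Nat.zero_le _) (by omega)
          unfold clsOK at h'
          rw [band_eq, Bool.and_eq_true] at h'
          have h2 := h'.2
          rw [bltN_iff.2 hi] at h2
          exact bltN_iff.1 h2) i.2 j.2 (by rw [kk i u, e', ← kk j v])
      subst hij
      exact Prod.ext rfl (Subtype.ext (mul_right_cancel e'))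
    have h1 := Nat.card_le_card_of_injective f hf
    rw [Nat.card_prod, Nat.card_fin, hcard] at h1
    refine le_antisymm ?_ hd
    exact Nat.le_of_mul_le_mul_left (h1.trans hkd.ge) hk
  -- the 3-subgroup
  have hstep : ∀ l : List ℕ, (∀ i ∈ l, i < D.pGens.length) → ∀ k < D.pord, ∃ t < D.pord,
      rep.ev (pW D gl k) * rep.ev (pCat D gl l) = rep.ev (pW D gl t) := by
    intro l
    induction l with
    | nil => exact fun _ k hk => ⟨k, hk, by show _ * rep.ev [] = _; rw [rep.ev_nil, mul_one]⟩
    | cons i l ih =>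
      intro hl k hk
      have h' := rangeB_spec hP k (Nat.zero_le _) (by omega)
      unfold pOK at h'
      rw [band_eq, Bool.and_eq_true] at h'
      have h2 := rangeB_spec h'.1 i (Nat.zero_le _) (by have := hl i (by simp); omega)
      simp only [hold_eq, band_eq, Bool.and_eq_true, bltN_iff] at h2
      have e := rep.eq_of_same base_lt hI h2.2
      rw [rep.ev_append] at e
      obtain ⟨t, ht, e'⟩ := ih (fun a ha => hl a (List.mem_cons_of_mem _ ha)) _ h2.1
      refine ⟨t, ht, ?_⟩
      show _ * rep.ev (pgW D gl i ++ pCat D gl l) = _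
      rw [rep.ev_append, ← mul_assoc, e, e']
  have hidx : ∀ l : List ℕ, ∀ k < D.pord, ∃ t < D.pord,
      rep.ev (pW D gl k) * rep.ev (pCat D gl l) = rep.ev (pW D gl t) := by
    intro l
    induction l with
    | nil => exact hstep [] (by simp)
    | cons i l ih =>
      intro k hk
      obtain ⟨t, ht, e⟩ : ∃ t < D.pord,
          rep.ev (pW D gl k) * rep.ev (pgW D gl i) = rep.ev (pW D gl t) := by
        rcases Nat.lt_or_ge i D.pGens.length with hi | hi
        · obtain ⟨t, ht, e⟩ := hstep [i] (by simpa using hi) k hk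
          exact ⟨t, ht, by simpa [pCat] using e⟩
        · refine ⟨k, hk, ?_⟩
          rw [pgW, nth_eq, List.getD_eq_default _ _ hi]
          show _ * rep.ev [] = _
          rw [rep.ev_nil, mul_one]
      obtain ⟨t', ht', e'⟩ := ih t ht
      refine ⟨t', ht', ?_⟩
      show _ * rep.ev (pgW D gl i ++ pCat D gl l) = _
      rw [rep.ev_append, ← mul_assoc, e, e']
  have hpord : 0 < D.pord := hp ▸ pow_pos (by norm_num) _
  have hp0 : rep.ev (pW D gl 0) = 1 := by
    have e : nth [] D.pElems 0 = [] := by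
      rw [nth_eq]
      have h' := eqLN_iff.1 hz
      rw [nth_eq] at h'
      rcases hl : D.pElems with _ | ⟨a, l⟩
      · rfl
      · rw [hl] at h'; simpa using h'
    rw [pW, e]
    exact rep.ev_nil
  let Pset : Set S := {g | ∃ t < D.pord, (g : Hbar) = rep.ev (pW D gl t)}
  have hmul : ∀ a b : S, a ∈ Pset → b ∈ Pset → a * b ∈ Pset := by
    rintro a b ⟨s, hs, ea⟩ ⟨t, ht, eb⟩
    obtain ⟨r, hr, e⟩ := hidx (nth [] D.pElems t) s hs
    exact ⟨r, hr, by rw [Subgroup.coe_mul, ea, eb, ← e]; rfl⟩
  have hone : (1 : S) ∈ Pset := ⟨0, hpord, hp0.symm⟩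
  let P : Subgroup S :=
    { carrier := Pset
      one_mem' := hone
      mul_mem' := fun {a b} => hmul a b
      inv_mem' := by
        intro a ha
        have hpow : ∀ n : ℕ, a ^ n ∈ Pset := fun n => by
          induction n with
          | zero => simpa using hone
          | succ n ih => rw [pow_succ]; exact hmul _ _ ih ha
        have e : a⁻¹ = a ^ (orderOf a - 1) := by
          refine (eq_inv_of_mul_eq_one_left ?_).symm
          rw [← pow_succ, Nat.sub_add_cancel (orderOf_pos a), pow_orderOf_eq_one]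
        rw [e]; exact hpow _ }
  have hpmem : ∀ t, rep.ev (pW D gl t) ∈ S := by
    intro t
    have : ∀ l, rep.ev (pCat D gl l) ∈ S := by
      intro l
      induction l with
      | nil => show rep.ev [] ∈ S; rw [rep.ev_nil]; exact one_mem _
      | cons i l ih =>
        show rep.ev (pgW D gl i ++ pCat D gl l) ∈ S
        rw [rep.ev_append]
        exact mul_mem (catL_mem hg _) ih
    exact this _
  have hPcard : Nat.card P = 3 ^ (Nat.card S).factorization 3 := by
    rw [hcard, ← hp]
    let f : Fin D.pord → P := fun t => ⟨⟨_, hpmem t⟩, t, t.2, rfl⟩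
    have hb : Function.Bijective f := by
      constructor
      · intro s t e
        have e' : rep.ev (pW D gl s) = rep.ev (pW D gl t) :=
          congrArg (fun g : P => ((g : S) : Hbar)) e
        have h' := rangeB_spec hP s (Nat.zero_le _) (by omega)
        unfold pOK at h'
        rw [band_eq, Bool.and_eq_true] at h'
        have h2 := rangeB_spec h'.2 t (Nat.zero_le _) (by omega)
        by_contra hne
        have hkey : keyW (pW D gl s) = keyW (pW D gl t) := by
          unfold keyW
          rw [rep.mov_base base_lt, rep.mov_base base_lt, e']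
        rw [show Nat.beq (s : ℕ) t = false from Bool.eq_false_iff.2 fun e =>
          hne (Fin.ext (beqN_iff.1 e)), beqN_iff.2 hkey] at h2
        simp at h2
      · rintro ⟨g, t, ht, e⟩
        exact ⟨⟨t, ht⟩, Subtype.ext (Subtype.ext e.symm)⟩
    rw [← Nat.card_eq_of_bijective f hb, Nat.card_fin]
  refine ⟨hyh ▸ hyS, fun k hkS => ?_, ?_⟩
  · let g : S := ⟨k⁻¹ * x3 * k, hkS⟩
    have hord : orderOf g = 3 := by
      rw [← Subgroup.orderOf_coe]
      show orderOf (k⁻¹ * x3 * k) = 3
      rw [← orderOf_x3]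
      have : SemiconjBy k⁻¹ x3 (k⁻¹ * x3 * k) := by simp [SemiconjBy, mul_assoc]
      exact (this.orderOf_eq).symm
    obtain ⟨s, t, ht, e⟩ := exists_conj_mem_of_orderOf_three P hPcard hord
    have e1 : (s : Hbar) * (k⁻¹ * x3 * k) * (s : Hbar)⁻¹ = rep.ev (pW D gl t) := e
    have h' := rangeB_spec hW t (Nat.zero_le _) (by omega)
    unfold pWitOK at h'
    rw [hold_eq] at h'
    rcases hwit : (nth (0, [], []) D.pWit t).1 with _ | _ | w
    · -- trivial
      rw [hwit] at h'
      have e2 := rep.eq_of_same base_lt hI h'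
      rw [rep.ev_nil] at e2
      rw [e2] at e1
      have h1 : k⁻¹ * x3 * k = 1 := by
        calc k⁻¹ * x3 * k = (s : Hbar)⁻¹ * ((s : Hbar) * (k⁻¹ * x3 * k) * (s : Hbar)⁻¹) * s := by
              group
          _ = 1 := by rw [e1]; group
      have : g = 1 := Subtype.ext h1
      rw [this, orderOf_one] at hord
      omega
    · rw [hwit] at h'
      have e2 := rep.eq_of_same base_lt hI h'
      rw [rep.ev_append, rep.ev_append] at e2
      set a := rep.ev (catL gl (nth (0, [], []) D.pWit t).2.2) with ha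
      have haS : a ∈ S := catL_mem hg _
      -- k⁻¹ x3 k = (a s)⁻¹ y (a s)
      have e3 : k⁻¹ * x3 * k = (a * s)⁻¹ * y * (a * s) := by
        have : rep.ev (pW D gl t) = a⁻¹ * y * a := by
          rw [mul_assoc, ← show a * rep.ev (pW D gl t) = y * a from e2, inv_mul_cancel_left]
        rw [this] at e1
        calc k⁻¹ * x3 * k = (s : Hbar)⁻¹ * ((s : Hbar) * (k⁻¹ * x3 * k) * (s : Hbar)⁻¹) * s := by
              group
          _ = _ := by rw [e1]; group
      refine ⟨k * (a * s)⁻¹ * h⁻¹, mem_U.2 ?_, a * s, mul_mem haS s.2, by group⟩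
      calc k * (a * s)⁻¹ * h⁻¹ * x3
          = k * ((a * s)⁻¹ * (h⁻¹ * x3 * h) * (a * s)) * ((a * s)⁻¹ * h⁻¹) := by group
        _ = k * (k⁻¹ * x3 * k) * ((a * s)⁻¹ * h⁻¹) := by rw [hyh, ← e3]
        _ = _ := by group
    · exfalso
      rw [hwit] at h'
      have e2 := rep.eq_of_same base_lt hI h'
      rw [rep.ev_append _ (pW D gl t), rep.ev_append rW] at e2
      set a := rep.ev ((nth (0, [], []) D.pWit t).2.1 ++
        catL gl (nth (0, [], []) D.pWit t).2.2) with ha
      have e3 : rep.ev rW = (k * (s : Hbar)⁻¹ * a⁻¹)⁻¹ * x3 * (k * (s : Hbar)⁻¹ * a⁻¹) := by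
        calc rep.ev rW = a * rep.ev (pW D gl t) * a⁻¹ := by
              rw [show a * rep.ev (pW D gl t) = rep.ev rW * a from e2, mul_inv_cancel_right]
          _ = _ := by rw [← e1]; group
      set b := k * (s : Hbar)⁻¹ * a⁻¹
      have hp' : rep.pt b 0 < 19530 := rep.pt_lt b 0 (by omega)
      refine r_moves hp' ?_
      rw [e3]
      exact conj_fixes b
  · have : U ⊓ S.map (MulAut.conj h).toMonoidHom = Z.map (MulAut.conj h).toMonoidHom := by
      ext u
      rw [Subgroup.mem_inf, mem_map_conj, mem_map_conj, memZ, mem_U, key]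
      tauto
    rw [this, Subgroup.card_map_of_injective (MulEquiv.injective _), hcardZ]

end Cfsg.Agent.Lib.LyC3
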