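import Mathlib

/-!
Arithmetic of the five orbit lengths 1, 252, 3500, 2625, 750.
-/

set_option autoImplicit false

namespace Cfsg.Agent.Lib.LyC3

/-- orders of the five stabilisers in `U` -/
def uStab : Fin 5 → ℕ := ![378000, 1500, 108, 144, 504]

/-- the five orbit lengths of `U` -/
def uLen : Fin 5 → ℕ := ![1, 252, 3500, 2625, 750]

theorem uLen_mul_uStab : ∀ j, uLen j * uStab j = 378000 := by decide +kernel

theorem uStab_inj : Function.Injective uStab := by decide +kernel

theorem uLen_inj : Function.Injective uLen := by decide +kernel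

theorem uLen_sum_univ : ∑ j, uLen j = 7128 := by decide +kernel

theorem sum_eq_one : ∀ J : Finset (Fin 5), 0 ∈ J → (∑ j ∈ J, uLen j) = 1 → J = {0} := by
  decide +kernel

theorem dvd_group_cases : ∀ J : Finset (Fin 5), 0 ∈ J →
    (∑ j ∈ J, uLen j) * 378000 ∣ 51765179004000000 → J = {0} ∨ J = Finset.univ := by
  decide +kernel

theorem dvd_seven_cases : ∀ J : Finset (Fin 5), 0 ∈ J →
    (∑ j ∈ J, uLen j) * 378000 ∣ 7128 * 378000 → J = {0} ∨ J = Finset.univ := by
  decide +kernel

theorem dvd_three_cases : ∀ J : Finset (Fin 5), 0 ∈ J →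
    (∑ j ∈ J, uLen j) * 3 ∣ 7128 * 378000 → J = {0} ∨ J = Finset.univ := by
  decide +kernel

/-- the possible numbers of Sylow 11-subgroups of a group of order 21384 -/
theorem eleven_candidates : ∀ n ∈ Nat.divisors 1944, n % 11 = 1 →
    n = 1 ∨ n = 12 ∨ n = 243 := by
  decide +kernel

theorem eleven_none : ∀ J : Finset (Fin 5), 0 ∉ J →
    (∑ j ∈ J, uLen j) ≠ 10 ∧ (∑ j ∈ J, uLen j) ≠ 120 ∧ (∑ j ∈ J, uLen j) ≠ 2430 := by
  decide +kernel

/-- in a group with Sylow subgroups of prime order there are `p - 1` elements of order `p` in each -/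
theorem card_orderOf_eq_prime {G : Type*} [Group G] [Finite G] {p : ℕ} [Fact p.Prime]
    (hcard : ∀ P : Sylow p G, Nat.card P = p) :
    Nat.card {g : G // orderOf g = p} = Nat.card (Sylow p G) * (p - 1) := by
  have hp := (Fact.out : p.Prime)
  let f : (Σ P : Sylow p G, {g : P // g ≠ 1}) → {g : G // orderOf g = p} := fun a =>
    ⟨a.2.1, by
      rw [Subgroup.orderOf_coe]
      have hd : orderOf a.2.1 ∣ p :=
        (orderOf_dvd_natCard a.2.1).trans (dvd_of_eq (hcard a.1))
      rcases (Nat.dvd_prime hp).1 hd with h | h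
      · exact absurd (orderOf_eq_one_iff.1 h) a.2.2
      · exact h⟩
  have hzp : ∀ (P : Sylow p G) (g : G), g ∈ P → orderOf g = p →
      (P : Subgroup G) = Subgroup.zpowers g := fun P g hg ho =>
    (Subgroup.eq_of_le_of_card_ge (Subgroup.zpowers_le.2 hg)
      (by rw [Nat.card_zpowers, ho]; exact (hcard P).le)).symm
  have hb : Function.Bijective f := by
    constructor
    · rintro ⟨P, g, hg⟩ ⟨Q, g', hg'⟩ e
      have e' : (g : G) = (g' : G) := congrArg Subtype.val e
      have hP := hzp P g g.2 (f ⟨P, g, hg⟩).2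
      have hQ := hzp Q g' g'.2 (f ⟨Q, g', hg'⟩).2
      obtain rfl : P = Q := Sylow.ext (by rw [hP, hQ, e'])
      obtain rfl : g = g' := Subtype.ext e'
      rfl
    · rintro ⟨g, hg⟩
      have hz : IsPGroup p (Subgroup.zpowers g) :=
        IsPGroup.of_card (n := 1) (by rw [Nat.card_zpowers, hg, pow_one])
      obtain ⟨P, hP⟩ := hz.exists_le_sylow
      refine ⟨⟨P, ⟨g, hP (Subgroup.mem_zpowers g)⟩, fun e => ?_⟩, rfl⟩
      have : g = 1 := congrArg Subtype.val e
      rw [this, orderOf_one] at hg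
      exact hp.ne_one hg.symm
  have hne : ∀ P : Sylow p G, Nat.card {g : P // g ≠ 1} = p - 1 := by
    intro P
    have := Fintype.ofFinite P
    classical
    rw [Nat.card_eq_fintype_card, Fintype.card_subtype_compl, Fintype.card_subtype_eq,
      ← Nat.card_eq_fintype_card]
    exact congrArg (· - 1) (hcard P)
  let := Fintype.ofFinite (Sylow p G)
  rw [← Nat.card_eq_of_bijective f hb, Nat.card_sigma,
    Finset.sum_congr rfl fun P _ => hne P, Finset.sum_const, Finset.card_univ,
    smul_eq_mul, Nat.card_eq_fintype_card]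

end Cfsg.Agent.Lib.LyC3
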