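import Mathlib
import Cfsg.Agent.Lib.LyC3.Nodes62
import Cfsg.Agent.Lib.LyC3.Sums62

/-!
The centraliser of the element of order three in a group of the order of the Lyons group with its
five double cosets: order 2694384000, centre of order three, simple quotient.
-/

set_option autoImplicit false

namespace Cfsg.Agent.Lib.LyC3

open Cfsg.Agent.Lib.LyDC MulAction

/-- the conjugating elements of the five nodes -/
noncomputable def nodeH : Fin 5 → Hbar :=
  ![1, 1, rep.ev node2.h, rep.ev node3.h, rep.ev node4.h]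

/-- what the argument uses of the Lyons group -/
structure Frame {G : Type} [Group G] (C : Ctx G) : Prop where
  inj : Function.Injective C.φ
  cardHbar : Nat.card Hbar = 5859000000
  cardS : ∀ j < 5, Nat.card (C.S j) = Ctx.stabOrder j
  cover : ∀ g : G, ∃ j < 5, ∃ h k : Hbar, g = C.φ h * (C.W j)⁻¹ * C.φ k
  notMem : C.z ∉ C.φ.range
  cardG : Nat.card G = 51765179004000000

theorem factorization_eq_exp {p a m n : ℕ} (hp : p.Prime) (hm : ¬p ∣ m) (hn : n = p ^ a * m) :
    n.factorization p = a := by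
  have hm0 : m ≠ 0 := fun e => hm (e ▸ dvd_zero p)
  rw [hn, Nat.factorization_mul (pow_ne_zero a hp.ne_zero) hm0, Finsupp.add_apply,
    Nat.factorization_eq_zero_of_not_dvd hm, hp.factorization_pow, Finsupp.single_eq_same, add_zero]

namespace Frame

variable {G : Type} [Group G] {C : Ctx G}

/-- the element of order three -/
noncomputable def x (C : Ctx G) : G := C.φ x3

/-- its centraliser -/
noncomputable def K (C : Ctx G) : Subgroup G := Subgroup.centralizer {x C}

/-- the image of `U` -/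
noncomputable def UG (C : Ctx G) : Subgroup G := U.map C.φ

/-- the fixed coset of a node -/
noncomputable def q (C : Ctx G) (j : Fin 5) : G ⧸ C.φ.range :=
  ((C.φ (nodeH j) * (C.W j)⁻¹ : G) : G ⧸ C.φ.range)

theorem mem_K {g : G} : g ∈ K C ↔ g * x C = x C * g := by
  rw [K, Subgroup.mem_centralizer_singleton_iff]

theorem x_mem_K : x C ∈ K C := mem_K.2 rfl

theorem hI (_F : Frame C) : BaseInj := C.inj

theorem hc (F : Frame C) : Nat.card Hbar ≤ 5859000000 := F.cardHbar.le

theorem finite (F : Frame C) : Finite G :=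
  Nat.finite_of_card_ne_zero (by rw [F.cardG]; norm_num)

theorem S_one (F : Frame C) : C.S 1 = rep.fixList [0] := by
  have e := (fix_zero_eq F.hI F.hc).1
  have h := e ▸ C.img_le_S
  refine (Subgroup.eq_of_le_of_card_ge h ?_).symm
  rw [F.cardS 1 (by omega)]
  exact le_of_le_of_eq (e ▸ img_card F.hI) rfl

theorem gens_le {j : ℕ} {a b : List (List ℕ × List (ℕ × Bool))}
    (ha : deriv.gensOK numItems j a = true) (hb : deriv.gensOK numItems j b = true) :
    ∀ g ∈ fstL a ++ fstL b, rep.ev g ∈ C.S j := by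
  intro g hg
  rcases List.mem_append.1 hg with h | h
  exacts [C.gens_mem ha g h, C.gens_mem hb g h]

theorem gens2_mem : ∀ g ∈ gens2, rep.ev g ∈ C.S 2 := by
  intro g hg
  rcases List.mem_append.1 hg with h | h
  exacts [gens_le lev2_0_gens lev2_1_gens g h, C.gens_mem lev2_2_gens g h]

theorem gens3_mem : ∀ g ∈ gens3, rep.ev g ∈ C.S 3 := by
  intro g hg
  rcases List.mem_append.1 hg with h | h
  exacts [gens_le lev3_0_gens lev3_1_gens g h, C.gens_mem lev3_2_gens g h]

theorem gens4_mem : ∀ g ∈ gens4, rep.ev g ∈ C.S 4 := gens_le lev4_0_gens lev4_1_gens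

theorem spec (F : Frame C) (j : Fin 5) : NodeSpec (C.S j) (nodeH j) (uStab j) := by
  have n2 : (6048 : ℕ).factorization 3 = 3 :=
    factorization_eq_exp Nat.prime_three (m := 224) (by norm_num) (by norm_num)
  fin_cases j
  · show NodeSpec (C.S 0) 1 378000
    rw [C.S_zero]
    exact nodeSpec_top F.hI F.hc
  · show NodeSpec (C.S 1) 1 1500
    rw [F.S_one]
    exact nodeSpec_fix0 F.hI F.hc
  · show NodeSpec (C.S 2) (rep.ev node2.h) 108
    exact node_spec F.hI node2 gens2 _ gens2_mem node2_ok (F.cardS 2 (by omega))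
      (by show 27 = 3 ^ (6048 : ℕ).factorization 3; rw [n2]; norm_num) (by decide)
  · show NodeSpec (C.S 3) (rep.ev node3.h) 144
    exact node_spec F.hI node3 gens3 _ gens3_mem node3_ok (F.cardS 3 (by omega))
      (by
        show 9 = 3 ^ (2880 : ℕ).factorization 3
        rw [factorization_eq_exp (a := 2) (m := 320) Nat.prime_three (by norm_num) (by norm_num)]
        norm_num) (by decide)
  · show NodeSpec (C.S 4) (rep.ev node4.h) 504
    exact node_spec F.hI node4 gens4 _ gens4_mem node4_ok (F.cardS 4 (by omega))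
      (by
        show 9 = 3 ^ (1008 : ℕ).factorization 3
        rw [factorization_eq_exp (a := 2) (m := 112) Nat.prime_three (by norm_num) (by norm_num)]
        norm_num) (by decide)

theorem smul_eq_iff {j : ℕ} {h u : Hbar} :
    C.φ u • ((C.φ h * (C.W j)⁻¹ : G) : G ⧸ C.φ.range) = ((C.φ h * (C.W j)⁻¹ : G) : G ⧸ C.φ.range)
      ↔ h⁻¹ * u * h ∈ C.S j := by
  rw [MulAction.Quotient.smul_mk, smul_eq_mul, eq_comm, QuotientGroup.eq]
  show _ ↔ C.W j * C.φ (h⁻¹ * u * h) * (C.W j)⁻¹ ∈ C.φ.range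
  rw [show (C.φ h * (C.W j)⁻¹)⁻¹ * (C.φ u * (C.φ h * (C.W j)⁻¹)) =
    C.W j * C.φ (h⁻¹ * u * h) * (C.W j)⁻¹ by rw [map_mul, map_mul, map_inv]; group]

theorem mem_UG_iff (F : Frame C) {g : G} : g ∈ UG C ↔ g ∈ K C ∧ g ∈ C.φ.range := by
  constructor
  · rintro ⟨u, hu, rfl⟩
    refine ⟨mem_K.2 ?_, ⟨u, rfl⟩⟩
    rw [x, ← map_mul, ← map_mul, mem_U.1 hu]
  · rintro ⟨hk, u, rfl⟩
    refine ⟨u, mem_U.2 (F.inj ?_), rfl⟩
    rw [map_mul, map_mul]
    exact mem_K.1 hk

theorem card_UG (F : Frame C) : Nat.card (UG C) = 378000 := by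
  rw [UG, Subgroup.card_map_of_injective F.inj, card_U F.hI F.hc]

/-- the orbit of a node -/
def orb (C : Ctx G) (j : Fin 5) : Set (G ⧸ C.φ.range) := MulAction.orbit (UG C) (q C j)

theorem card_orb (F : Frame C) (j : Fin 5) : (orb C j).ncard = uLen j := by
  have := F.finite
  have h := Nat.card_congr (MulAction.orbitProdStabilizerEquivGroup (UG C) (q C j))
  rw [Nat.card_prod, F.card_UG, Nat.card_coe_set_eq] at h
  have hs : Nat.card (MulAction.stabilizer (UG C) (q C j)) = uStab j := by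
    have e : (MulAction.stabilizer (UG C) (q C j)).map (UG C).subtype =
        (U ⊓ (C.S j).map (MulAut.conj (nodeH j)).toMonoidHom).map C.φ := by
      ext g
      constructor
      · rintro ⟨⟨_, u, hu, rfl⟩, hst, rfl⟩
        exact ⟨u, ⟨hu, mem_map_conj.2 (smul_eq_iff.1 hst)⟩, rfl⟩
      · rintro ⟨u, ⟨hu, hs⟩, rfl⟩
        exact ⟨⟨C.φ u, u, hu, rfl⟩, smul_eq_iff.2 (mem_map_conj.1 hs), rfl⟩
    rw [← Subgroup.card_map_of_injective (f := (UG C).subtype) (Subgroup.subtype_injective _), e,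
      Subgroup.card_map_of_injective F.inj, (F.spec j).2.2]
  rw [hs] at h
  have hl : uLen j * uStab j = 378000 := uLen_mul_uStab j
  have hpos : 0 < uStab j := by
    rcases Nat.eq_zero_or_pos (uStab j) with h0 | h0
    · rw [h0] at hl; omega
    · exact h0
  exact Nat.eq_of_mul_eq_mul_right hpos (h.trans hl.symm)

theorem fixed_mem_orb (F : Frame C) {a : G ⧸ C.φ.range} (ha : x C • a = a) :
    ∃ j, a ∈ orb C j := by
  obtain ⟨g, rfl⟩ := QuotientGroup.mk_surjective a
  obtain ⟨j, hj, h, k, rfl⟩ := F.cover g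
  have e : ((C.φ h * (C.W j)⁻¹ * C.φ k : G) : G ⧸ C.φ.range) =
      ((C.φ h * (C.W j)⁻¹ : G) : G ⧸ C.φ.range) :=
    QuotientGroup.eq.2 ⟨k⁻¹, by rw [map_inv]; group⟩
  rw [e] at ha ⊢
  obtain ⟨u, hu, s, hs, rfl⟩ := (F.spec ⟨j, hj⟩).2.1 h (smul_eq_iff.1 ha)
  refine ⟨⟨j, hj⟩, ⟨⟨C.φ u, u, hu, rfl⟩, ?_⟩⟩
  show C.φ u • q C ⟨j, hj⟩ = _
  rw [q, MulAction.Quotient.smul_mk, smul_eq_mul, QuotientGroup.eq]
  have hs' : C.W j * C.φ s * (C.W j)⁻¹ ∈ C.φ.range := hs
  obtain ⟨r, hr⟩ := hs'
  exact ⟨r, by rw [hr, map_mul, map_mul]; group⟩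

theorem orb_disjoint (F : Frame C) {i j : Fin 5} (h : i ≠ j) : Disjoint (orb C i) (orb C j) := by
  refine Set.disjoint_left.2 fun a hi hj => h (uLen_inj ?_)
  rw [← F.card_orb i, ← F.card_orb j]
  have e1 : MulAction.orbit (UG C) a = orb C i := MulAction.orbit_eq_iff.2 hi
  have e2 : MulAction.orbit (UG C) a = orb C j := MulAction.orbit_eq_iff.2 hj
  rw [← e1, e2]

theorem ncard_union_orb (F : Frame C) (J : Finset (Fin 5)) :
    (⋃ j ∈ J, orb C j).ncard = ∑ j ∈ J, uLen j := by
  have := F.finite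
  classical
  induction J using Finset.induction with
  | empty => simp
  | insert a J ha ih =>
    rw [Finset.set_biUnion_insert, Finset.sum_insert ha, ← ih, ← F.card_orb a]
    refine Set.ncard_union_eq ?_ (Set.toFinite _) (Set.toFinite _)
    exact Set.disjoint_iUnion₂_right.2 fun b hb => F.orb_disjoint fun e => ha (e ▸ hb)

/-- an invariant set of fixed cosets is a union of the five orbits -/
theorem exists_sum (F : Frame C) (T : Set (G ⧸ C.φ.range)) (hfix : ∀ a ∈ T, x C • a = a)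
    (hinv : ∀ u : UG C, ∀ a ∈ T, u • a ∈ T) :
    ∃ J : Finset (Fin 5), (∀ j, j ∈ J ↔ q C j ∈ T) ∧ T.ncard = ∑ j ∈ J, uLen j ∧
      T = ⋃ j ∈ J, orb C j := by
  have := F.finite
  classical
  refine ⟨Finset.univ.filter fun j => q C j ∈ T, fun j => by simp, ?_⟩
  have hT : T = ⋃ j ∈ Finset.univ.filter (fun j => q C j ∈ T), orb C j := by
    ext a
    simp only [Set.mem_iUnion, Finset.mem_filter, Finset.mem_univ, true_and, exists_prop]
    constructor
    · intro ha
      obtain ⟨j, hj⟩ := F.fixed_mem_orb (hfix a ha)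
      obtain ⟨u, hu⟩ := hj
      refine ⟨j, ?_, u, hu⟩
      have := hinv u⁻¹ a ha
      rwa [← hu, inv_smul_smul] at this
    · rintro ⟨j, hj, u, rfl⟩
      exact hinv u _ hj
  refine ⟨?_, hT⟩
  conv_lhs => rw [hT]
  exact F.ncard_union_orb _

theorem q_zero : q C 0 = ((1 : G) : G ⧸ C.φ.range) := by
  show ((C.φ 1 * (C.W 0)⁻¹ : G) : G ⧸ C.φ.range) = _
  rw [map_one, one_mul]
  simp [Ctx.W]

theorem smul_one_eq {g : G} : g • q C 0 = ((g : G) : G ⧸ C.φ.range) := by
  rw [q_zero, MulAction.Quotient.smul_mk, smul_eq_mul, mul_one]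

theorem x_mem_range : x C ∈ C.φ.range := ⟨x3, rfl⟩

theorem fixed_of_mem_K {g : G} (hg : g ∈ K C) : x C • (g : G ⧸ C.φ.range) = g := by
  rw [MulAction.Quotient.smul_mk, smul_eq_mul, eq_comm, QuotientGroup.eq, ← mem_K.1 hg,
    inv_mul_cancel_left]
  exact x_mem_range

/-- a subgroup of the centraliser normalised by `UG`: its size is a sum of orbit lengths times
its intersection with the image of `Hbar` -/
theorem card_eq_sum (F : Frame C) (N : Subgroup G) (hK : N ≤ K C)
    (hn : ∀ u ∈ UG C, ∀ n ∈ N, u * n * u⁻¹ ∈ N) :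
    ∃ J : Finset (Fin 5), 0 ∈ J ∧
      Nat.card N = (∑ j ∈ J, uLen j) * Nat.card ↥(N ⊓ C.φ.range) ∧
        (J = {0} → N ≤ C.φ.range) := by
  have := F.finite
  obtain ⟨J, hJ, hcard, hT⟩ := F.exists_sum (MulAction.orbit N (q C 0))
    (by
      rintro _ ⟨n, rfl⟩
      show x C • ((n : G) • q C 0) = (n : G) • q C 0
      rw [smul_one_eq]
      exact fixed_of_mem_K (hK n.2))
    (by
      rintro ⟨u, hu⟩ _ ⟨⟨n, hm⟩, rfl⟩
      refine ⟨⟨u * n * u⁻¹, hn u hu n hm⟩, ?_⟩
      show (u * n * u⁻¹) • q C 0 = u • (n • q C 0)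
      rw [smul_one_eq, smul_one_eq, MulAction.Quotient.smul_mk, smul_eq_mul, QuotientGroup.eq]
      obtain ⟨w, -, rfl⟩ := hu
      exact ⟨w, by group⟩)
  refine ⟨J, (hJ 0).2 (MulAction.mem_orbit_self _), ?_, ?_⟩
  · have h := Nat.card_congr (MulAction.orbitProdStabilizerEquivGroup N (q C 0))
    rw [Nat.card_prod, Nat.card_coe_set_eq, hcard] at h
    rw [← h]
    congr 1
    have e : (MulAction.stabilizer N (q C 0)).map N.subtype = N ⊓ C.φ.range := by
      have key : ∀ g : G, g • q C 0 = q C 0 ↔ g ∈ C.φ.range := fun g => by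
        rw [smul_one_eq, q_zero, eq_comm, QuotientGroup.eq, inv_one, one_mul]
      ext g
      constructor
      · rintro ⟨n, hst, rfl⟩
        exact ⟨n.2, (key _).1 hst⟩
      · rintro ⟨h1, h2⟩
        exact ⟨⟨g, h1⟩, (key g).2 h2, rfl⟩
    rw [← e, Subgroup.card_map_of_injective (Subgroup.subtype_injective _)]
  · rintro rfl n hm
    have h1 : (⟨n, hm⟩ : N) • q C 0 ∈ MulAction.orbit N (q C 0) := MulAction.mem_orbit _ _
    rw [hT] at h1
    simp only [Finset.mem_singleton, Set.iUnion_iUnion_eq_left] at h1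
    obtain ⟨⟨_, w, hw, rfl⟩, e⟩ := h1
    have e' : (C.φ w) • q C 0 = n • q C 0 := e
    rw [smul_one_eq, smul_one_eq, QuotientGroup.eq] at e'
    have := C.φ.range.mul_mem ⟨w, rfl⟩ e'
    rwa [mul_inv_cancel_left] at this

theorem tok_push : ∀ l : List ℕ, (∀ k ∈ l, k < 16) →
    C.φ (rep.ev (catL tokWords l)) * C.z = C.z * C.φ (rep.ev (catL imgWords l))
  | [], _ => by
    show C.φ (rep.ev []) * C.z = C.z * C.φ (rep.ev [])
    simp [rep.ev_nil]
  | k :: l, h => by
    show C.φ (rep.ev (nth [] tokWords k ++ catL tokWords l)) * C.z =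
      C.z * C.φ (rep.ev (nth [] imgWords k ++ catL imgWords l))
    rw [rep.ev_append, rep.ev_append, map_mul, map_mul, mul_assoc,
      tok_push l (fun a ha => h a (List.mem_cons_of_mem _ ha)), ← mul_assoc,
      C.tok k (h k (List.mem_cons_self ..)), mul_assoc]

/-- an element of the centraliser outside the image of `Hbar` -/
theorem exists_outside (F : Frame C) : ∃ c ∈ K C, c ∉ C.φ.range := by
  have h := tokXOK_true
  unfold tokXOK at h
  simp only [band_eq, Bool.and_eq_true, forallB_iff, bltN_iff] at h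
  obtain ⟨hlt, ht, hi⟩ := h
  have hy := tok_push (C := C) tokX hlt
  rw [rep.eq_of_same base_lt F.hI ht, rep.eq_of_same base_lt F.hI hi,
    (classL_spec F.hI (i := 9) (by omega)).2.1] at hy
  set l := rep.ev (nth [] classL 9)
  refine ⟨C.φ l * C.z * (C.φ l)⁻¹, mem_K.2 ?_, fun hm => F.notMem ?_⟩
  · rw [map_mul, map_mul, map_inv] at hy
    have e := congrArg (fun t => C.φ l * t * (C.φ l)⁻¹) hy
    show _ * C.φ x3 = C.φ x3 * _
    simp only [mul_assoc, mul_inv_cancel_left] at e
    simp only [mul_assoc]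
    simpa using e.symm
  · have := C.φ.range.mul_mem (C.φ.range.mul_mem (C.φ.range.inv_mem ⟨l, rfl⟩) hm) ⟨l, rfl⟩
    simpa [mul_assoc] using this

theorem UG_le (F : Frame C) : UG C ≤ K C := fun _ hg => ((F.mem_UG_iff).1 hg).1

theorem inf_range (F : Frame C) : K C ⊓ C.φ.range = UG C :=
  Subgroup.ext fun _ => F.mem_UG_iff.symm

theorem card_K (F : Frame C) : Nat.card (K C) = 7128 * 378000 := by
  have := F.finite
  obtain ⟨J, h0, hcard, hle⟩ := F.card_eq_sum (K C) le_rfl
    (fun u hu n hn => (K C).mul_mem ((K C).mul_mem (F.UG_le hu) hn) ((K C).inv_mem (F.UG_le hu)))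
  rw [F.inf_range, F.card_UG] at hcard
  rcases dvd_group_cases J h0 (hcard ▸ F.cardG ▸ Subgroup.card_subgroup_dvd_card (K C)) with h | h
  · obtain ⟨c, hc, hc'⟩ := F.exists_outside
    exact absurd (hle h hc) hc'
  · rw [hcard, h, uLen_sum_univ]

/-- an element of the centraliser normalising `UG` lies in the image of `Hbar` -/
theorem mem_range_of_normalizes (F : Frame C) {c : G} (hc : c ∈ K C)
    (hn : ∀ u ∈ UG C, c⁻¹ * u * c ∈ UG C) : c ∈ C.φ.range := by
  obtain ⟨j, hj⟩ := F.fixed_mem_orb (fixed_of_mem_K hc)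
  have hfix : ∀ u : UG C, u • (c : G ⧸ C.φ.range) = c := by
    rintro ⟨u, hu⟩
    show u • (c : G ⧸ C.φ.range) = c
    rw [MulAction.Quotient.smul_mk, smul_eq_mul, eq_comm, QuotientGroup.eq, ← mul_assoc]
    exact ((F.mem_UG_iff).1 (hn u hu)).2
  have h1 : MulAction.orbit (UG C) (c : G ⧸ C.φ.range) = orb C j := MulAction.orbit_eq_iff.2 hj
  have h2 : MulAction.orbit (UG C) (c : G ⧸ C.φ.range) = {(c : G ⧸ C.φ.range)} := by
    ext a
    simp [MulAction.mem_orbit_iff, hfix, eq_comm]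
  have h3 : uLen j = 1 := by rw [← F.card_orb j, ← h1, h2, Set.ncard_singleton]
  obtain rfl : j = 0 := uLen_inj (h3.trans (show (1 : ℕ) = uLen 0 from rfl))
  obtain ⟨⟨_, w, hw, rfl⟩, e⟩ := hj
  have e' : C.φ w • q C 0 = (c : G ⧸ C.φ.range) := e
  rw [smul_one_eq, QuotientGroup.eq] at e'
  have := C.φ.range.mul_mem ⟨w, rfl⟩ e'
  rwa [mul_inv_cancel_left] at this

theorem orderOf_x (F : Frame C) : orderOf (x C) = 3 := by
  rw [x, orderOf_injective C.φ F.inj, orderOf_x3]

/-- the element of order eleven argument -/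
theorem no_big_small (F : Frame C) (N : Subgroup G) (hK : N ≤ K C)
    (hn : ∀ u ∈ UG C, ∀ n ∈ N, u * n * u⁻¹ ∈ N) (hcard : Nat.card N = 21384)
    (hinf : N ⊓ C.φ.range = Subgroup.zpowers (x C)) : False := by
  have := F.finite
  haveI : Fact (Nat.Prime 11) := ⟨by norm_num⟩
  have hsyl : ∀ P : Sylow 11 N, Nat.card P = 11 := by
    intro P
    rw [P.card_eq_multiplicity, hcard,
      factorization_eq_exp (a := 1) (m := 1944) (Fact.out : Nat.Prime 11) (by norm_num)
        (by norm_num), pow_one]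
  have hcount := card_orderOf_eq_prime hsyl
  obtain ⟨P⟩ := (inferInstance : Nonempty (Sylow 11 N))
  have hdvd : Nat.card (Sylow 11 N) ∣ 1944 := by
    have h1 := P.card_dvd_index
    have h2 := (P : Subgroup N).index_mul_card
    rw [hsyl P, hcard] at h2
    have : (P : Subgroup N).index = 1944 := by omega
    rwa [this] at h1
  have hmod : Nat.card (Sylow 11 N) % 11 = 1 := card_sylow_modEq_one 11 N
  have hcand := eleven_candidates _ (Nat.mem_divisors.2 ⟨hdvd, by norm_num⟩) hmod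
  let E : Set (G ⧸ C.φ.range) := {a | ∃ n : N, orderOf n = 11 ∧ ((n : G) : G ⧸ C.φ.range) = a}
  obtain ⟨J, hJ, hEcard, -⟩ := F.exists_sum E
    (by rintro _ ⟨n, -, rfl⟩; exact fixed_of_mem_K (hK n.2))
    (by
      rintro ⟨u, hu⟩ _ ⟨n, hn', rfl⟩
      refine ⟨⟨u * n * u⁻¹, hn u hu n n.2⟩, ?_, ?_⟩
      · rw [← hn', ← Subgroup.orderOf_coe, ← Subgroup.orderOf_coe]
        have : SemiconjBy u (n : G) (u * n * u⁻¹) := by simp [SemiconjBy, mul_assoc]
        exact (this.orderOf_eq).symm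
      · show ((u * (n : G) * u⁻¹ : G) : G ⧸ C.φ.range) = u • ((n : G) : G ⧸ C.φ.range)
        rw [MulAction.Quotient.smul_mk, smul_eq_mul, QuotientGroup.eq]
        obtain ⟨w, -, rfl⟩ := hu
        exact ⟨w, by group⟩)
  have h0 : (0 : Fin 5) ∉ J := fun h => by
    obtain ⟨n, hn', e⟩ := (hJ 0).1 h
    rw [q_zero, QuotientGroup.eq, mul_one] at e
    have hm : (n : G) ∈ Subgroup.zpowers (x C) := hinf ▸ ⟨n.2, by simpa using e⟩
    obtain ⟨k, hk⟩ := Subgroup.mem_zpowers_iff.1 hm
    have hd : orderOf (n : G) ∣ 3 := by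
      refine orderOf_dvd_of_pow_eq_one ?_
      rw [← hk, ← zpow_natCast, ← zpow_mul, mul_comm, zpow_mul, zpow_natCast, ← F.orderOf_x,
        pow_orderOf_eq_one, one_zpow]
    rw [Subgroup.orderOf_coe, hn'] at hd
    norm_num at hd
  have hEeq : E.ncard = Nat.card {n : N // orderOf n = 11} := by
    rw [← Nat.card_coe_set_eq]
    refine (Nat.card_eq_of_bijective (fun n : {n : N // orderOf n = 11} =>
      (⟨((n : N) : G), n.1, n.2, rfl⟩ : E)) ⟨?_, ?_⟩).symm
    · rintro ⟨n, hn1⟩ ⟨m, hm1⟩ e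
      have e' : ((n : G) : G ⧸ C.φ.range) = ((m : G) : G ⧸ C.φ.range) := congrArg Subtype.val e
      rw [QuotientGroup.eq] at e'
      have hm2 : (n : G)⁻¹ * m ∈ Subgroup.zpowers (x C) :=
        hinf ▸ ⟨N.mul_mem (N.inv_mem n.2) m.2, e'⟩
      obtain ⟨k, hk⟩ := Subgroup.mem_zpowers_iff.1 hm2
      have hcomm : Commute (n : G) (x C ^ k) := (Commute.zpow_right (mem_K.1 (hK n.2)) k)
      have hmn : (m : G) = n * x C ^ k := by rw [hk, mul_inv_cancel_left]
      have hn11 : (n : G) ^ 11 = 1 := by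
        rw [← hn1, ← Subgroup.orderOf_coe]; exact pow_orderOf_eq_one _
      have hm11 : (m : G) ^ 11 = 1 := by
        rw [← hm1, ← Subgroup.orderOf_coe]; exact pow_orderOf_eq_one _
      rw [hmn, hcomm.mul_pow, hn11, one_mul, ← zpow_natCast, ← zpow_mul,
        ← orderOf_dvd_iff_zpow_eq_one, F.orderOf_x] at hm11
      have h3 : (3 : ℤ) ∣ k := by omega
      refine Subtype.ext (Subtype.ext ?_)
      show (n : G) = m
      rw [hmn, orderOf_dvd_iff_zpow_eq_one.1 (show (orderOf (x C) : ℤ) ∣ k by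
        rw [F.orderOf_x]; exact h3), mul_one]
    · rintro ⟨a, n, hn1, rfl⟩
      exact ⟨⟨n, hn1⟩, rfl⟩
  obtain ⟨e1, e2, e3⟩ := eleven_none J h0
  rw [hEeq, hcount] at hEcard
  rcases hcand with h | h | h <;> rw [h] at hEcard <;> omega

/-- normal subgroups of the centraliser containing `x` -/
theorem normal_cases (F : Frame C) (N : Subgroup G) (hK : N ≤ K C)
    (hn : ∀ k ∈ K C, ∀ n ∈ N, k * n * k⁻¹ ∈ N) (hx : x C ∈ N) :
    N = Subgroup.zpowers (x C) ∨ N = K C := by
  have := F.finite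
  obtain ⟨J, h0, hcard, hle⟩ := F.card_eq_sum N hK (fun u hu => hn u (F.UG_le hu))
  let N0 : Subgroup U := N.comap (C.φ.comp U.subtype)
  have hN0 : N0.Normal := ⟨fun n hn' u => by
    show C.φ ((u * n * u⁻¹ : U) : Hbar) ∈ N
    simp only [Subgroup.coe_mul, Subgroup.coe_inv, map_mul, map_inv]
    exact hn _ (F.UG_le ⟨u, u.2, rfl⟩) _ hn'⟩
  have hinfU : N ⊓ C.φ.range = N0.map (C.φ.comp U.subtype) := by
    ext g
    constructor
    · rintro ⟨hg, hr⟩
      obtain ⟨u, hu, rfl⟩ := (F.mem_UG_iff).2 ⟨hK hg, hr⟩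
      exact ⟨⟨u, hu⟩, hg, rfl⟩
    · rintro ⟨u, hu, rfl⟩
      exact ⟨hu, (u : Hbar), rfl⟩
  rcases normal_eq F.hI F.hc N0 (show x3U ∈ N0 from hx) with h | h
  · -- small intersection
    have hinf : N ⊓ C.φ.range = Subgroup.zpowers (x C) := by
      rw [hinfU, h, MonoidHom.map_zpowers]; rfl
    rw [hinf, Nat.card_zpowers, F.orderOf_x] at hcard
    have hd : Nat.card N ∣ 7128 * 378000 := F.card_K ▸ Subgroup.card_dvd_of_le hK
    rw [hcard] at hd
    rcases dvd_three_cases J h0 hd with hJ | hJ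
    · left
      rw [← hinf, inf_eq_left.2 (hle hJ)]
    · rw [hJ, uLen_sum_univ] at hcard
      exact (F.no_big_small N hK (fun u hu => hn u (F.UG_le hu)) hcard hinf).elim
  · have hinf : N ⊓ C.φ.range = UG C := by
      rw [hinfU, h, ← MonoidHom.range_eq_map, MonoidHom.range_comp, Subgroup.range_subtype]
      rfl
    rw [hinf, F.card_UG] at hcard
    have hd : Nat.card N ∣ 7128 * 378000 := F.card_K ▸ Subgroup.card_dvd_of_le hK
    rw [hcard] at hd
    rcases dvd_seven_cases J h0 hd with hJ | hJ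
    · exfalso
      obtain ⟨c, hc, hc'⟩ := F.exists_outside
      refine hc' (F.mem_range_of_normalizes hc fun u hu => ?_)
      have hNle : N ≤ UG C := hinf ▸ (le_inf le_rfl (hle hJ))
      have huN : u ∈ N := ((hinf ▸ hu : u ∈ N ⊓ C.φ.range)).1
      exact hNle (by simpa using hn c⁻¹ ((K C).inv_mem hc) u huN)
    · right
      refine Subgroup.eq_of_le_of_card_ge hK ?_
      rw [F.card_K, hcard, hJ, uLen_sum_univ]

/-- the centraliser of the element of order three -/
theorem main (F : Frame C) : ∃ y : G, orderOf y = 3 ∧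
    Nat.card (Subgroup.center (Subgroup.centralizer ({y} : Set G))) = 3 ∧
      IsSimpleGroup ((Subgroup.centralizer ({y} : Set G)) ⧸
        Subgroup.center (Subgroup.centralizer ({y} : Set G))) ∧
        Nat.card ((Subgroup.centralizer ({y} : Set G)) ⧸
          Subgroup.center (Subgroup.centralizer ({y} : Set G))) = 898128000 := by
  have := F.finite
  refine ⟨x C, F.orderOf_x, ?_⟩
  show Nat.card (Subgroup.center (K C)) = 3 ∧ IsSimpleGroup (K C ⧸ Subgroup.center (K C)) ∧
    Nat.card (K C ⧸ Subgroup.center (K C)) = 898128000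
  have hcases : ∀ M : Subgroup (K C), M.Normal → (⟨x C, x_mem_K⟩ : K C) ∈ M →
      M.map (K C).subtype = Subgroup.zpowers (x C) ∨ M = ⊤ := by
    intro M hM hxM
    have hle : M.map (K C).subtype ≤ K C := by
      rintro _ ⟨m, -, rfl⟩; exact m.2
    rcases F.normal_cases _ hle (by
        rintro k hk _ ⟨m, hm, rfl⟩
        exact ⟨⟨k, hk⟩ * m * ⟨k, hk⟩⁻¹, hM.conj_mem m hm ⟨k, hk⟩, rfl⟩)
      ⟨_, hxM, rfl⟩ with h | h
    · exact Or.inl h
    · right
      refine (Subgroup.eq_top_iff' M).2 fun k => ?_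
      have hk : (k : G) ∈ M.map (K C).subtype := h.symm ▸ k.2
      obtain ⟨m, hm, e⟩ := hk
      rwa [show k = m from (Subtype.ext e).symm]
  have hxc : (⟨x C, x_mem_K⟩ : K C) ∈ Subgroup.center (K C) :=
    Subgroup.mem_center_iff.2 fun g => Subtype.ext (mem_K.1 g.2)
  have hZ : Nat.card (Subgroup.center (K C)) = 3 := by
    rcases hcases _ inferInstance hxc with h | h
    · rw [← Subgroup.card_map_of_injective (f := (K C).subtype) (Subgroup.subtype_injective _), h,
        Nat.card_zpowers, F.orderOf_x]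
    · exfalso
      obtain ⟨c, hc, hc'⟩ := F.exists_outside
      refine hc' (F.mem_range_of_normalizes hc fun u hu => ?_)
      have e := Subgroup.mem_center_iff.1 (h ▸ Subgroup.mem_top (⟨u, F.UG_le hu⟩ : K C))
        (⟨c, hc⟩ : K C)
      have e' : c * u = u * c := congrArg Subtype.val e
      rw [mul_assoc, ← e', inv_mul_cancel_left]
      exact hu
  have hQ : Nat.card (K C ⧸ Subgroup.center (K C)) = 898128000 := by
    have := Subgroup.card_eq_card_quotient_mul_card_subgroup (Subgroup.center (K C))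
    rw [F.card_K, hZ] at this
    omega
  refine ⟨hZ, ?_, hQ⟩
  have : Nontrivial (K C ⧸ Subgroup.center (K C)) :=
    Finite.one_lt_card_iff_nontrivial.1 (by rw [hQ]; norm_num)
  refine ⟨fun M hM => ?_⟩
  set M' := M.comap (QuotientGroup.mk' (Subgroup.center (K C))) with hM'
  have hZle : Subgroup.center (K C) ≤ M' := fun g hg => by
    show QuotientGroup.mk' _ g ∈ M
    rw [show QuotientGroup.mk' (Subgroup.center (K C)) g = 1 from (QuotientGroup.eq_one_iff g).2 hg]
    exact one_mem M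
  have hsurj := QuotientGroup.mk'_surjective (Subgroup.center (K C))
  have hback : M'.map (QuotientGroup.mk' (Subgroup.center (K C))) = M :=
    Subgroup.map_comap_eq_self_of_surjective hsurj M
  rcases hcases M' (hM.comap _) (hZle hxc) with h | h
  · left
    have hc : Nat.card M' = 3 := by
      rw [← Subgroup.card_map_of_injective (f := (K C).subtype) (Subgroup.subtype_injective _), h,
        Nat.card_zpowers, F.orderOf_x]
    have he : Subgroup.center (K C) = M' :=
      Subgroup.eq_of_le_of_card_ge hZle (by rw [hc, hZ])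
    rw [← hback, ← he]
    exact (Subgroup.map_eq_bot_iff _).2 (by rw [QuotientGroup.ker_mk'])
  · right
    rw [← hback, h, Subgroup.map_top_of_surjective _ hsurj]

end Frame

end Cfsg.Agent.Lib.LyC3
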