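import Mathlib
import Cfsg.Agent.Lib.LyC3.Main62
import Cfsg.Agent.Lib.LyMain.Ly
import Cfsg.Agent.Lib.LyMain.HSimple

/-!
The element of order three of the presented Lyons group with centraliser a triple cover of a group
of McLaughlin's order.
-/

set_option autoImplicit false

namespace Cfsg.Agent.Lib.LyC3

open Cfsg Cfsg.Spor
open Cfsg.Agent.Lib.LyMain (lyPhi lyCtx lySetup lyS)

theorem lyFrame : Frame lyCtx := by
  have hs := LyMain.hbar_simple
  have S := lySetup hs
  refine ⟨LyMain.lyPhi_injective hs, LyDC.card_Hbar, fun j hj => ?_,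
    fun g => lyCtx.cover_left LyDC.card_Hbar.le LyMain.lyCtx_gen g, fun hz => ?_,
    LyMain.ly_card hs⟩
  · have h := S.card_inter_eq ⟨j, hj⟩
    rw [LyMain.inter_eq hs, Subgroup.card_map_of_injective (LyMain.lyPhi_injective hs)] at h
    refine h.trans ?_
    interval_cases j <;> rfl
  · refine absurd (S.doubleCoset_inj (i := 1) (j := 0) (h := (lyS 1)) (k := 1) ?_ (one_mem _) ?_)
      (by decide)
    · show (lyCtx.W 1)⁻¹ ∈ lyPhi.range
      rw [lyCtx.W_one]
      exact inv_mem hz
    · rw [S.s_zero, mul_one, mul_one]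

/-- an element of order three with centraliser a triple cover of a group of McLaughlin's order -/
theorem ly_three_centraliser : ∃ y : Ly, orderOf y = 3 ∧
    Nat.card (Subgroup.center (Subgroup.centralizer ({y} : Set Ly))) = 3 ∧
      Cfsg.IsMcL ((Subgroup.centralizer ({y} : Set Ly)) ⧸
        Subgroup.center (Subgroup.centralizer ({y} : Set Ly))) := by
  obtain ⟨y, h1, h2, h3, h4⟩ := lyFrame.main
  exact ⟨y, h1, h2, h3, h4⟩

end Cfsg.Agent.Lib.LyC3
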