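import Cfsg.Agent.Lib.LyDC.Kernel

/-!
Generated: for the double cosets 2, 3, 4 a Sylow 3-subgroup of the stabiliser, the class and the
centraliser of an element of order three in it; lists of small numbers index lists of words.
-/

set_option maxRecDepth 100000

namespace Cfsg.Agent.Lib.LyC3

/-- certificate data of one node -/
structure NodeData where
  ord : Nat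
  pord : Nat
  k : Nat
  d : Nat
  y : List Nat
  h : List Nat
  pGens : List (List Nat)
  pElems : List (List Nat)
  pTab : List (List Nat)
  pWit : List (Nat × List Nat × List Nat)
  clsS : List (List Nat)
  clsY : List (List Nat)
  cent : List (List Nat)

/-- an element of order three without fixed points -/
def rW : List Nat := [0x684684]

/-- tokens with product the ninth listed conjugate of the element of order three -/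
def tokX : List Nat := [10, 13]

/-- the data of node 2 -/
def node2 : NodeData where
  ord := 6048
  pord := 27
  k := 56
  d := 108
  y := [0, 1]
  h := [0x1]
  pGens := [[0, 1],
  [0, 3, 3, 7, 2],
  [1, 3, 7, 7, 3]]
  pElems := [[],
  [0],
  [1],
  [2],
  [0, 0],
  [0, 1],
  [0, 2],
  [1, 1],
  [1, 2],
  [2, 1],
  [2, 2],
  [0, 0, 1],
  [0, 0, 2],
  [0, 1, 1],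
  [0, 2, 1],
  [0, 2, 2],
  [1, 1, 2],
  [1, 2, 1],
  [1, 2, 2],
  [2, 1, 1],
  [2, 1, 2],
  [2, 2, 1],
  [0, 0, 1, 1],
  [0, 0, 2, 2],
  [1, 1, 2, 2],
  [1, 2, 1, 2],
  [1, 2, 2, 1]]
  pTab := [[1, 2, 3],
  [4, 5, 6],
  [5, 7, 8],
  [6, 9, 10],
  [0, 11, 12],
  [11, 13, 9],
  [12, 14, 15],
  [13, 0, 16],
  [9, 17, 18],
  [14, 19, 20],
  [15, 21, 0],
  [2, 22, 14],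
  [3, 8, 23],
  [22, 1, 17],
  [8, 16, 21],
  [23, 18, 1],
  [17, 6, 24],
  [19, 12, 25],
  [20, 26, 2],
  [16, 3, 26],
  [21, 24, 5],
  [18, 25, 11],
  [7, 4, 19],
  [10, 20, 4],
  [25, 23, 7],
  [26, 10, 13],
  [24, 15, 22]]
  pWit := [(0, [], []),
  (1, [], []),
  (2, [0x866236731641], []),
  (2, [0x866236731641], [0, 0]),
  (1, [], [0]),
  (2, [0x866236731641], [0, 3, 2, 3, 3, 0]),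
  (2, [0x866236731641], [1, 3, 1, 2, 1, 3]),
  (2, [0x866236731641], [0, 0, 0, 0]),
  (2, [0x866236731641], [3, 3, 7, 2]),
  (2, [0x866236731641], [0, 3, 2, 3, 3]),
  (2, [0x866236731641], [1, 1]),
  (2, [0x866236731641], [1, 3, 7, 7, 3]),
  (2, [0x866236731641], [3, 3, 0, 1, 7]),
  (2, [0x866236731641], [1, 2, 3, 0, 3, 7]),
  (2, [0x866236731641], [1]),
  (2, [0x866236731641], [3, 2, 3, 3]),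
  (2, [0x866236731641], [0, 0, 0, 3, 2, 3, 3]),
  (2, [0x866236731641], [0]),
  (2, [0x866236731641], [3, 2, 3, 3, 1]),
  (2, [0x866236731641], [3, 7, 7, 3]),
  (2, [0x866236731641], [1, 1, 1]),
  (2, [0x866236731641], [3, 3, 7, 7]),
  (2, [0x866236731641], [1, 3, 3, 7, 7]),
  (2, [0x866236731641], [1, 3, 3, 7, 2]),
  (2, [0x866236731641], [3, 1, 2, 1, 3]),
  (2, [0x866236731641], [1, 1, 3, 3, 7, 7]),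
  (2, [0x866236731641], [0, 0, 0])]
  clsS := [[0, 3, 1, 7],
  [3, 1, 7],
  [3, 3, 3, 0],
  [3, 1, 2],
  [3, 7, 7],
  [3, 0, 1],
  [2, 3, 7, 0],
  [0, 3, 2],
  [0, 2, 3, 3, 1],
  [3, 2, 3],
  [0, 3, 1, 2],
  [2, 3, 3, 1],
  [0],
  [],
  [0, 2, 3, 0],
  [0, 3, 7],
  [3, 3],
  [3, 2],
  [3, 1],
  [3, 2, 1],
  [2, 3, 0],
  [2, 3, 1, 0],
  [0, 3, 2, 1],
  [0, 3, 1, 0],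
  [0, 2, 3, 7, 0],
  [7],
  [3, 2, 0],
  [3, 7],
  [0, 3, 0, 1],
  [2, 3, 7],
  [2, 3, 3, 0],
  [2],
  [0, 3],
  [0, 2, 3, 7],
  [3, 1, 7, 3],
  [2, 3, 1],
  [3, 0, 1, 1],
  [0, 3, 0],
  [0, 2, 3],
  [0, 3, 2, 0],
  [7, 0],
  [2, 3],
  [3, 1, 1],
  [3, 0],
  [0, 7, 3],
  [0, 3, 1],
  [2, 3, 1, 3],
  [0, 3, 1, 1],
  [0, 2],
  [2, 3, 3],
  [0, 2, 3, 3],
  [0, 7],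
  [3, 1, 0],
  [7, 3],
  [3, 3, 3],
  [3]]
  clsY := [[0x15137624674],
  [0x38531584262],
  [0x13631684257],
  [0x233686385526235],
  [0x28517362464],
  [0x4236742357],
  [0x4235742367],
  [0x13531584267],
  [0x244586852361416],
  [0x35315842671],
  [0x268614544671451],
  [0x232642368167644],
  [0x2413],
  [0x4231],
  [0x5851464457146],
  [0x53248544253686],
  [0x442313],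
  [0x41357413667],
  [0x6328533632575],
  [0x5418367423],
  [0x5328633532676],
  [0x41367413557],
  [0x4138574236],
  [0x63248644263585],
  [0x8547236413],
  [0x3144111],
  [0x242367423571],
  [0x54285546424586],
  [0x8647235413],
  [0x242357423671],
  [0x23853158426],
  [0x424414],
  [0x16137524574],
  [0x285418364131],
  [0x42385741366],
  [0x28617352454],
  [0x23863168425],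
  [0x4138674235],
  [0x258514644571461],
  [0x286418354131],
  [0x424133],
  [0x233585386625236],
  [0x154137574131],
  [0x6418357423],
  [0x244685862351415],
  [0x6861454467145],
  [0x42386741355],
  [0x242386842362],
  [0x323313],
  [0x164137674131],
  [0x242385842352],
  [0x1331411],
  [0x64286645424685],
  [0x232542358157544],
  [0x36316842571],
  [0x38631684252]]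
  cent := [[],
  [3, 2, 3, 3, 0, 0],
  [3, 2, 3, 7, 3, 2],
  [3, 2, 3, 3],
  [2, 1, 3, 3, 2, 3, 2],
  [1, 3, 3, 7, 7],
  [0, 0, 0, 3, 7, 7, 3],
  [3, 2, 3, 3, 1, 1],
  [1, 0, 1, 2, 3, 0, 3, 2],
  [0, 0, 0, 3, 3, 7, 7],
  [0, 1, 3, 0, 1, 3, 1, 3],
  [1, 0, 3, 2, 3, 3],
  [0, 1, 3, 2, 3, 3],
  [0, 0, 0, 3, 3, 7, 2],
  [0, 3, 2, 3, 0, 3, 3],
  [0, 0, 0, 0],
  [0, 0],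
  [1, 1],
  [1, 0],
  [0, 1],
  [1, 0, 1, 1],
  [0, 1, 1, 1],
  [2, 0, 3, 3, 0, 2, 3],
  [0, 0, 1, 0],
  [0, 0, 0, 0, 1, 0],
  [2, 3, 0, 3, 2, 0],
  [2, 3, 0, 3, 0, 2],
  [3, 0, 1, 3, 1, 3],
  [3, 7, 7, 0, 3, 3],
  [0, 3, 1, 2, 3, 3, 7],
  [1, 1, 3, 3, 7, 0, 2],
  [0, 0, 1, 3, 2, 3, 3, 1],
  [0, 1, 0, 3, 2, 3, 3, 1],
  [7, 3, 3, 2, 3, 2, 0],
  [3, 1, 2, 3, 3, 0, 2],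
  [0, 1, 3, 3, 0, 1, 2],
  [1, 3, 7, 7, 3],
  [2, 3, 0, 3, 2, 1],
  [2, 3, 0, 3, 0, 7],
  [0, 1, 1, 3, 3, 7, 7],
  [3, 3, 0, 1, 7],
  [1, 2, 3, 3, 0, 2, 3],
  [3, 1, 2, 1, 3, 1],
  [0, 0, 3, 3, 0, 1, 7],
  [1, 3, 3, 7, 2],
  [0, 1, 1, 3, 7, 7, 3],
  [1, 3, 1, 2, 1, 3],
  [0, 0, 3, 2, 3, 3, 1, 1],
  [0, 3, 3, 7, 7],
  [0, 1, 3, 3, 7, 7, 0],
  [2, 0, 3, 0, 3, 2],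
  [7, 2, 1, 2],
  [0, 1, 0, 3, 3, 7, 2],
  [1, 1, 3, 3, 0, 1, 7],
  [1, 1, 3, 3, 7, 7, 0],
  [1, 2, 3, 0, 3, 2],
  [1, 1, 1, 3, 3, 7, 2],
  [1, 2, 3, 0, 3, 7],
  [7, 3, 3, 2, 3, 7, 0],
  [1, 1, 3, 3, 7, 0, 7],
  [0, 3, 2, 3, 3, 0],
  [2, 0, 3, 0, 3, 7],
  [0, 0, 3, 3, 7, 2, 1],
  [2, 1, 3, 0, 1, 3],
  [3, 2, 1, 3, 3, 1, 3],
  [0, 1, 0, 3, 7, 7, 3],
  [1, 0, 2, 0, 3, 0, 3, 2],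
  [0, 3, 2, 3, 3, 1],
  [3, 3, 7, 7, 0],
  [1, 1, 3, 2, 3, 3],
  [1, 1, 1, 3, 3, 7, 7],
  [0, 3, 1, 0, 2, 3, 7],
  [0, 0, 3, 3, 0, 1, 2],
  [3, 3, 1, 7, 7],
  [2, 3, 0, 3, 7, 0],
  [0, 3, 7, 7, 3],
  [0, 1, 3, 3, 0, 1, 7],
  [1, 0, 1, 3, 2, 3, 3, 0],
  [0, 3, 0, 1, 3, 1, 3, 1],
  [3, 2, 3, 0, 3, 3, 0],
  [1, 0, 3, 3, 1, 7, 7],
  [3, 2, 3, 7, 0, 7, 3],
  [0, 0, 0, 1],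
  [1, 1, 1, 3, 7, 7, 3],
  [3, 7, 0, 1, 3, 2, 3],
  [2, 1, 3, 1, 1, 3, 7],
  [0, 2, 3, 0, 3, 2],
  [0, 2, 3, 2, 3, 2, 3, 7],
  [0, 0, 3, 2, 3, 3],
  [1, 3, 2, 3, 3, 1],
  [1, 3, 2, 3, 3, 0],
  [1, 7, 3, 3, 2, 3, 7],
  [0, 0, 3, 3, 7, 7, 0],
  [0, 1, 0, 3, 3, 7, 7],
  [0, 0, 3, 3, 1, 7, 7],
  [2, 3, 7, 0, 7, 3, 3],
  [3, 3, 0, 1, 2],
  [0, 0, 1, 3, 3, 7, 2],
  [0, 3, 3, 7, 2],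
  [3, 3, 7, 0, 2],
  [0, 0, 1, 3, 7, 7, 3],
  [0, 1, 2, 0, 3, 0, 3, 2],
  [0, 2, 3, 3, 0, 2, 3],
  [3, 1, 7, 3, 2, 3],
  [3, 1, 3, 3, 3, 3],
  [3, 3, 7, 0, 7],
  [3, 3, 7, 2, 1],
  [1, 7, 3, 3, 2, 3, 2]]

/-- the data of node 3 -/
def node3 : NodeData where
  ord := 2880
  pord := 9
  k := 20
  d := 144
  y := [0, 0, 3, 3, 3, 2]
  h := [0x5233185814135]
  pGens := [[0, 0, 3, 3, 3, 2],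
  [1, 2, 3, 3]]
  pElems := [[],
  [0],
  [1],
  [0, 0],
  [0, 1],
  [1, 1],
  [0, 0, 1],
  [0, 1, 1],
  [0, 0, 1, 1]]
  pTab := [[1, 2],
  [3, 4],
  [4, 5],
  [0, 6],
  [6, 7],
  [7, 0],
  [2, 8],
  [8, 1],
  [5, 3]]
  pWit := [(0, [], []),
  (1, [], []),
  (2, [0x18626247673151], []),
  (1, [], [0, 0, 2]),
  (2, [0x67426267], []),
  (2, [0x18626247673151], [0, 2, 3]),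
  (2, [0x67426267], [0, 0, 2]),
  (2, [0x67426267], [2, 0, 3]),
  (2, [0x67426267], [0, 0, 0, 1, 3])]
  clsS := [[2, 2],
  [2, 3, 0],
  [0, 0, 2, 0],
  [],
  [1, 1],
  [2, 3],
  [2, 2, 3],
  [0, 2],
  [2],
  [0, 0, 2],
  [0, 0, 0],
  [3],
  [0, 1, 0],
  [0],
  [0, 0, 0, 2],
  [0, 0],
  [0, 1],
  [1],
  [1, 0],
  [3, 0]]
  clsY := [[0x23363385735424],
  [0x223548547613313],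
  [0x31361686836166],
  [0x22453852468361],
  [0x25458576626645],
  [0x63685314468533],
  [0x241548548453311],
  [0x224463385836231],
  [0x44686332458545],
  [0x25486326684663],
  [0x353242862671364],
  [0x424425386736411],
  [0x44686267636644],
  [0x55254868525424],
  [0x636852331458545],
  [0x3638553536851],
  [0x636853244158545],
  [0x2686454558454],
  [0x354285157131464],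
  [0x63551558676361]]
  cent := [[],
  [3, 3, 3, 3],
  [0, 2, 2, 3],
  [1, 1, 2, 2],
  [2, 2, 2, 3, 0],
  [1, 1, 3, 0],
  [1, 0, 1, 3, 1, 2],
  [1, 0, 0, 3, 0, 2, 2],
  [0, 2, 3, 1, 3, 1],
  [0, 3, 3, 0, 3, 2],
  [3, 1, 3, 0, 2, 0, 2],
  [1, 2, 3, 0, 2, 3, 2],
  [2, 3, 0, 1, 0, 0, 3],
  [0, 2, 0, 3, 1, 3, 3],
  [0, 3, 1, 0, 1, 3, 2],
  [3, 1, 0, 1, 3, 2, 0],
  [3, 0, 2, 3, 2],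
  [3, 0, 3, 1, 3],
  [3, 2, 3, 0, 0, 1],
  [2, 2, 2, 3, 3, 3, 0],
  [0, 3, 3, 0, 0, 0],
  [0, 3, 2, 0, 0, 0],
  [1, 0, 3, 0, 2, 2, 0],
  [0, 2, 3, 0, 2, 0, 2],
  [2, 3, 0, 2, 0],
  [0, 1, 0, 1, 3, 0, 3],
  [2, 2, 3, 0, 0, 3],
  [0, 2, 2, 3, 0, 0, 3, 2],
  [0, 2, 0, 3, 0, 3],
  [2, 0, 3],
  [1, 0, 3, 1, 3, 2, 3],
  [3, 1, 0, 3, 1],
  [0, 1, 2, 3, 1, 1, 3],
  [1, 3, 2, 0, 0, 2],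
  [0, 0, 2, 2, 3, 1],
  [3, 3, 2, 3, 0, 2, 0],
  [2, 2, 2, 3, 0, 1, 2],
  [0, 0, 3, 3, 3, 2],
  [1, 1, 1, 2, 2, 2],
  [0, 0, 1, 0, 3, 2, 2, 2],
  [3, 0, 3, 3, 2, 3, 2],
  [0, 0, 3, 2, 3, 3],
  [0, 0, 0, 3, 1, 1, 1],
  [0, 3, 0, 0, 2, 3, 1, 0],
  [0, 3, 0, 0, 1, 0],
  [1, 0, 0, 3, 2, 0],
  [3, 3, 0, 3, 1, 1, 3],
  [2, 0, 0, 3, 1, 3],
  [2, 3, 0, 2, 0, 3, 3],
  [3, 0, 2, 2, 3, 2, 0],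
  [3, 0, 0, 3, 1, 1],
  [0, 0, 0, 3, 2, 2],
  [0, 0, 2, 3, 0, 3, 0],
  [1, 3, 1, 2, 3, 2],
  [0, 3, 0, 1, 3, 1],
  [0, 0, 3, 2],
  [0, 0, 1, 2, 3, 1, 2, 2],
  [1, 1, 1, 3, 3, 3, 0, 1],
  [3, 3, 0, 0, 3, 2],
  [0, 0, 3, 3, 2, 3, 2, 0],
  [1, 2, 3, 3, 3, 3],
  [2, 3, 3, 0, 3],
  [0, 0, 2, 2, 3, 0, 3],
  [3, 1, 0, 1, 2, 3, 1],
  [2, 0, 0, 2, 3, 2],
  [1, 2, 3, 0, 3, 1, 3],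
  [1, 3, 2, 2, 3, 1],
  [1, 1, 3, 0, 3, 3],
  [2, 2, 3, 1, 3, 1, 0],
  [2, 0, 3, 3, 3],
  [0, 0, 2, 0, 3, 1, 0],
  [1, 1, 3, 3, 3, 0],
  [1, 2, 3, 3],
  [1, 2, 3, 1, 2, 3],
  [0, 1, 0, 1, 3, 1],
  [2, 2, 3, 0, 1],
  [1, 1, 2, 3, 0, 0],
  [0, 3, 1, 1, 3],
  [1, 0, 1, 3],
  [0, 1, 3, 0, 3, 2],
  [2, 3, 1, 3, 0, 2, 2],
  [1, 2, 2, 2, 3, 0, 1],
  [2, 0, 3, 1, 2],
  [1, 3, 0, 0],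
  [0, 2, 0, 2, 3, 2, 3],
  [1, 0, 3, 0, 0, 0, 3],
  [1, 3, 3, 3, 0, 0],
  [0, 3, 1, 1, 3, 1, 2],
  [0, 1, 2, 2, 2, 3],
  [1, 3, 1, 0, 3, 1, 1],
  [2, 3, 0, 0, 3, 0],
  [3, 1, 1, 3, 1, 1, 3],
  [0, 2, 2, 0, 3, 1, 3],
  [1, 0, 3, 2, 0, 0],
  [3, 1, 1, 0, 3, 2],
  [0, 3, 2, 2, 2, 3],
  [2, 2, 3, 1, 0, 2],
  [0, 3, 1, 0, 2, 3, 1],
  [1, 3, 3, 3, 3, 2],
  [1, 3, 0, 0, 1, 2],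
  [1, 3, 3, 2],
  [0, 1, 3, 0, 3, 1, 2, 2],
  [0, 2, 2, 3, 1, 2],
  [0, 3, 0, 2, 2, 3, 2],
  [1, 3, 0, 0, 3, 3],
  [0, 0, 3, 1, 2, 2],
  [0, 0, 3, 0, 1, 3],
  [1, 1, 3, 2, 2, 0, 2],
  [3, 0, 0, 0, 1],
  [1, 2],
  [1, 3, 0, 3, 3, 0],
  [1, 2, 2, 3, 0, 2, 0],
  [1, 1, 2, 2, 3, 3],
  [0, 2, 3, 0, 3, 0, 2],
  [0, 0, 1, 0, 3, 1, 1],
  [1, 0, 0, 3, 1, 0, 1],
  [0, 2, 3, 3, 2, 3],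
  [1, 0, 2, 3, 2, 2, 3],
  [0, 2, 2, 3, 3, 3],
  [0, 3, 1, 0, 0, 3, 1, 0],
  [0, 0, 0, 3, 3, 0],
  [0, 1, 0, 3, 2, 3],
  [0, 0, 3, 3, 0, 0],
  [0, 1, 3, 2, 2, 3],
  [1, 1, 3, 0, 2, 0, 3],
  [1, 3, 0, 3, 2, 2],
  [1, 0, 1, 3, 3, 3],
  [1, 3, 3, 2, 3, 3],
  [0, 2, 0, 3, 1],
  [3, 1, 2, 3],
  [1, 3, 2, 3, 2, 0],
  [3, 3, 3, 0, 0, 0, 1],
  [0, 0, 1, 3, 1, 3],
  [1, 3, 0, 2, 3, 0, 2],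
  [3, 1, 3, 2, 3, 1, 3],
  [1, 1, 1, 3, 0, 1],
  [3, 3],
  [3, 0, 2, 0, 0],
  [2, 3, 1, 3, 2, 0],
  [0, 0, 1, 2, 3, 2],
  [1, 0, 3, 0, 0, 1],
  [0, 2, 2, 0, 2, 3, 2],
  [3, 3, 2, 0, 3],
  [1, 1, 3, 2, 3, 0, 2]]

/-- the data of node 4 -/
def node4 : NodeData where
  ord := 1008
  pord := 9
  k := 2
  d := 504
  y := [0, 2, 1, 2]
  h := [0x1]
  pGens := [[0, 2, 1, 2],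
  [3, 3]]
  pElems := [[],
  [0],
  [1],
  [0, 0],
  [0, 1],
  [1, 1],
  [0, 0, 1],
  [0, 1, 1],
  [0, 0, 1, 1]]
  pTab := [[1, 2],
  [3, 4],
  [4, 5],
  [0, 6],
  [6, 7],
  [7, 0],
  [2, 8],
  [8, 1],
  [5, 3]]
  pWit := [(0, [], []),
  (1, [], []),
  (2, [0x263358576144533], []),
  (1, [], [0]),
  (2, [0x28613527557462], []),
  (2, [0x263358576144533], [0, 0, 2]),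
  (2, [0x28613527557462], [3]),
  (2, [0x28613527557462], [0, 0, 2]),
  (2, [0x28613527557462], [0, 0, 2, 3])]
  clsS := [[0],
  []]
  clsY := [[0x2413],
  [0x4231]]
  cent := [[0, 2, 3, 0, 0, 2],
  [],
  [3, 2, 3, 3, 1],
  [0, 0, 0, 1, 0, 3],
  [0, 2, 3, 2, 0, 1],
  [0, 0, 0, 1, 2],
  [2, 3, 2, 3],
  [0, 2, 3, 2],
  [0, 2, 3, 2, 0, 0],
  [0, 2, 3, 0, 1, 2],
  [0, 2, 3, 2, 3, 0],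
  [0, 0, 0, 3, 0, 3],
  [0, 1, 3, 3, 3, 1, 2],
  [0, 0, 3, 1, 3, 1],
  [0, 1, 3, 3, 0, 3],
  [2, 3, 3, 1, 3, 2],
  [1, 2, 3, 2],
  [0, 2, 3, 1, 0, 2],
  [0, 2, 3, 0, 1],
  [0, 1, 2, 0, 3],
  [3, 0, 1, 0, 3, 3],
  [0, 1, 3, 3, 3, 1],
  [0, 2, 3, 0, 0],
  [0, 0, 3, 3, 3, 0],
  [3, 0, 0, 0, 3, 3],
  [0, 0, 3, 3, 3, 1],
  [0, 2, 3, 2, 1, 0],
  [0, 2, 1],
  [0, 2, 3, 3, 0],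
  [2, 0, 1],
  [0, 2, 3, 3, 1],
  [0, 0, 0, 0],
  [3, 1, 0, 3, 3, 3],
  [2, 0, 0, 2],
  [0, 0],
  [3, 0, 1, 3],
  [1, 3, 3, 3, 3, 3],
  [1, 2, 0, 2],
  [0, 2, 1, 2],
  [2, 3, 3, 3, 1, 2],
  [3, 2, 0, 0, 0],
  [3, 3, 3, 3],
  [1, 0],
  [0, 1],
  [2, 3, 2, 0, 3, 0],
  [0, 2, 1, 3, 3, 2],
  [3, 3, 0, 1, 3, 1],
  [1, 3, 1, 3, 2],
  [0, 0, 3, 3, 2],
  [3, 0, 3, 3],
  [2, 1, 0, 2],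
  [0, 0, 1, 0],
  [0, 0, 3, 0, 3, 0, 2],
  [0, 2, 1, 3, 3],
  [0, 0, 1, 0, 3, 3],
  [3, 1, 3, 3, 2],
  [1, 2, 3, 2, 3, 0],
  [3, 2, 3, 3, 0],
  [1, 2, 3],
  [0, 2, 3, 1, 0],
  [0, 2, 3],
  [0, 0, 2, 3, 3, 2],
  [3, 0, 0, 1, 3, 3],
  [3, 0, 3, 1, 2],
  [0, 0, 1, 3, 1, 3, 2],
  [0, 3, 3, 3, 0, 3],
  [0, 0, 3, 0, 1, 0, 2],
  [0, 1, 2],
  [0, 0, 0, 0, 2],
  [0, 0, 1, 0, 2],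
  [2],
  [3, 2, 0, 0, 1],
  [3, 3, 1, 3, 3, 0],
  [3, 3, 0, 3, 3, 1],
  [0, 0, 3, 0, 0, 3, 2],
  [0, 0, 2],
  [0, 3, 3, 1, 3, 3],
  [0, 3, 0, 1, 3, 1],
  [3, 0, 0, 1, 0, 3],
  [1, 0, 2],
  [0, 1, 3, 3, 3, 3],
  [3, 0, 0, 1, 3, 1],
  [0, 3, 3, 3, 3, 1],
  [0, 2, 1, 3, 3, 0, 3],
  [3, 2, 3, 2],
  [2, 3, 3, 0, 3],
  [0, 1, 0, 3],
  [1, 3, 2, 1, 3],
  [3, 0, 1, 3, 3, 3],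
  [1, 0, 2, 3, 2, 3],
  [3, 0, 0, 1],
  [3, 2, 1, 2],
  [2, 3, 0, 1, 3],
  [0, 0, 2, 3, 0],
  [1, 2, 3, 3, 3],
  [3, 0, 0, 0, 0, 1],
  [0, 3, 1, 2, 3],
  [0, 3, 2],
  [0, 0, 2, 3, 2, 3],
  [3, 0, 3, 3, 1, 0],
  [0, 1, 2, 3, 3],
  [3, 2, 3, 1, 3],
  [0, 0, 3, 0, 3, 1, 2],
  [0, 3, 3, 0, 3, 0],
  [0, 2, 3, 3, 0, 2],
  [2, 3, 2, 3, 0, 0],
  [3, 1, 0, 3, 2],
  [0, 0, 0, 1, 3, 3],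
  [2, 3, 3, 3, 0, 2],
  [0, 3],
  [2, 3, 2, 3, 1, 0],
  [2, 3, 2, 3, 0, 1],
  [3, 3, 0, 0, 3, 0],
  [2, 3, 3, 2],
  [3, 0, 0, 0, 3, 1],
  [0, 2, 3, 3, 0, 3, 1],
  [1, 2, 3, 3, 0, 2],
  [0, 3, 1, 3, 3, 0],
  [0, 3, 0, 3, 0, 1],
  [0, 0, 0, 3, 3, 0],
  [2, 3, 2, 3, 2],
  [3, 3, 0, 3, 3, 0],
  [0, 3, 0, 0, 3, 3, 2],
  [0, 0, 3, 1, 3, 1, 2],
  [0, 1, 3, 3, 0, 3, 2],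
  [0, 3, 0, 0, 3, 1],
  [0, 0, 3, 1, 0, 3],
  [0, 3, 0, 0, 3, 2, 3],
  [0, 0, 0, 3, 0, 1],
  [0, 3, 0, 0, 3, 0],
  [1, 3, 3, 0, 3, 3],
  [3, 1, 3, 1, 2],
  [2, 3, 2, 0],
  [2, 3, 2, 0, 1, 0],
  [0, 3, 3, 0, 3, 1],
  [2, 3, 0, 1, 3, 2],
  [3, 0, 2, 3, 0, 2],
  [3, 2, 3, 0, 1],
  [2, 1, 3],
  [0, 0, 3, 1, 3, 3],
  [2, 3, 0, 0, 3, 2],
  [0, 0, 2, 3, 3],
  [3, 2, 0, 3, 1],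
  [0, 2, 3, 2, 3, 1],
  [3, 2, 0, 3, 3],
  [2, 3, 2, 3, 0, 3],
  [0, 3, 1, 0, 3, 3, 2],
  [0, 3, 2, 0, 3],
  [3, 2, 0, 3, 0],
  [3, 2, 1, 3, 1],
  [3, 2, 1, 3, 3],
  [2, 0, 3, 0, 1, 2],
  [3, 0, 2],
  [0, 1, 0, 3, 3, 3],
  [1, 0, 2, 3, 3, 2],
  [0, 1, 2, 3, 2, 1],
  [0, 1, 3, 2, 1, 3, 3],
  [3, 3, 3, 0, 0, 1],
  [0, 3, 0, 1, 3, 2, 3],
  [3, 3, 3, 3, 2],
  [0, 0, 1, 3, 1, 3],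
  [2, 0, 2, 3],
  [0, 0, 0, 1],
  [0, 0, 3, 0],
  [0, 2, 3, 3, 3, 2],
  [0, 1, 3, 1, 2],
  [3, 1, 2],
  [3, 0, 2, 3, 0],
  [0, 0, 0, 2, 3, 0, 0],
  [3, 3, 2, 3, 1],
  [0, 0, 0, 3, 3, 1, 2],
  [0, 3, 0, 0, 3, 3],
  [2, 3, 3, 3, 3],
  [2, 3, 3, 3, 1],
  [3, 0, 1, 0, 2],
  [2, 1, 2, 3],
  [2, 0, 0],
  [3, 2, 0],
  [2, 3, 2, 3, 1, 3],
  [3, 0, 3, 2, 3],
  [0, 0, 3, 2, 1],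
  [3, 0, 3, 3, 3, 1],
  [3, 0, 3, 3, 3, 3],
  [0, 0, 3, 0, 1, 3],
  [0, 0, 3, 0, 3, 1],
  [0, 0, 3, 0, 3, 0],
  [0, 3, 3, 0, 3, 3],
  [0, 0, 0, 3, 0, 3, 2],
  [3, 3, 3, 0, 0, 0],
  [0, 0, 0, 3],
  [3, 3, 0, 0, 3, 3],
  [2, 3, 2, 0, 0, 0],
  [0, 2, 3, 0, 3],
  [2, 3, 2, 0, 2],
  [3, 1, 3, 3, 0, 3],
  [0, 0, 0, 2, 3],
  [3, 0, 0, 3, 0, 0],
  [3, 2, 1, 3, 3, 2],
  [3, 0, 2, 3, 1],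
  [0, 3, 0, 0, 3, 0, 2],
  [0, 3, 2, 0, 3, 0, 0],
  [3, 0, 3, 3, 2],
  [1, 3],
  [2, 3, 2, 1, 3, 3],
  [2, 3, 2, 0, 3, 3],
  [2, 1, 2, 3, 3, 3],
  [0, 0, 3, 2, 0, 1, 0],
  [3, 3, 3, 1, 2],
  [0, 2, 1, 3, 1],
  [3, 2, 3, 0, 3, 2],
  [2, 0, 3, 1, 0],
  [0, 0, 3, 1],
  [0, 1, 2, 3, 1, 3, 3],
  [2, 3, 3, 0, 3, 2],
  [0, 2, 3, 3, 2, 3],
  [2, 3, 3, 1, 3],
  [0, 3, 0, 3, 0, 0],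
  [0, 0, 1, 3, 3, 0],
  [0, 0, 2, 3, 2, 0],
  [0, 0, 2, 3, 0, 2],
  [3, 0, 0, 1, 2],
  [0, 2, 3, 0, 3, 2],
  [3, 3, 0, 3, 3, 3],
  [3, 3, 0, 3, 1, 3],
  [3, 0, 0, 3, 3, 3],
  [1, 2, 3, 3, 0],
  [0, 0, 0, 2, 3, 3, 0],
  [0, 3, 1, 0],
  [3, 3, 1, 3, 2],
  [1, 2, 0],
  [2, 3, 1, 3, 3],
  [0, 3, 0, 0, 2],
  [2, 1, 0],
  [3, 3, 0, 0, 0, 0],
  [2, 1, 3, 3, 0],
  [0, 3, 2, 3, 1, 3, 1],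
  [2, 0, 3, 0, 1],
  [0, 1, 3, 2, 3, 0, 3],
  [3, 2, 3, 1, 0],
  [3, 3, 0, 0],
  [1, 0, 3, 2, 3],
  [0, 1, 3, 2, 3],
  [3, 1, 3, 3],
  [0, 1, 2, 3, 2, 3],
  [0, 3, 2, 0, 3, 0, 1],
  [0, 2, 3, 3, 3, 0, 1],
  [0, 0, 3, 0, 1, 0],
  [0, 2, 1, 3, 1, 2],
  [0, 0, 1, 3],
  [2, 0, 3, 0, 0, 0, 1],
  [0, 3, 1, 0, 3, 2, 3],
  [0, 3, 1, 0, 2],
  [0, 3, 0, 3, 0, 3],
  [3, 1, 2, 3, 1],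
  [3, 0, 3, 0],
  [0, 0, 3, 2, 0, 3, 1],
  [0, 0, 3, 2, 0, 2],
  [0, 2, 3, 3, 3],
  [1, 3, 3, 3, 1, 3],
  [1, 3, 1, 3],
  [0, 1, 2, 3, 3, 3, 1],
  [0, 1, 2, 3, 1, 2],
  [3, 1],
  [3, 2, 3, 0, 3],
  [0, 3, 1, 3],
  [3, 0, 0, 0, 2],
  [3, 0, 1, 3, 2],
  [0, 2, 3, 3, 1, 2],
  [3, 0, 0, 3, 1, 0],
  [0, 3, 2, 0, 0, 2],
  [1, 0, 2, 3, 3],
  [2, 3, 2, 0, 0, 1],
  [3, 0, 2, 3, 1, 2],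
  [0, 3, 2, 3, 3, 2],
  [3, 0, 1, 2, 0],
  [1, 3, 3, 2, 3],
  [0, 1, 3, 2, 1],
  [0, 0, 3, 3, 3, 3],
  [3, 3, 3, 0],
  [3, 0, 0, 0, 3, 0],
  [2, 0, 3, 3, 1],
  [2, 3, 1, 3, 1],
  [3, 3, 3, 0, 2],
  [3, 0, 0, 0],
  [2, 3, 1, 0, 3, 2],
  [0, 3, 0, 1, 0, 3],
  [2, 3, 2, 3, 3, 0],
  [0, 0, 2, 3, 2, 1, 2],
  [0, 3, 3, 3, 0, 1],
  [0, 3, 3, 1, 0, 3],
  [1, 3, 3, 0],
  [3, 0, 3, 1, 3, 3],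
  [1, 3, 1, 3, 3, 3],
  [2, 0, 2, 3, 3, 0],
  [0, 3, 0, 1, 3, 3, 2],
  [0, 3, 0, 2, 1, 3, 3],
  [0, 0, 1, 2, 3],
  [3, 0, 0, 3, 0, 1],
  [2, 3, 2, 3, 3, 1],
  [0, 1, 0, 3, 2],
  [0, 3, 2, 3, 0],
  [3, 0, 3, 3, 0, 3],
  [3, 3, 1, 0, 2],
  [3, 0, 3, 1, 2, 3, 3],
  [2, 3, 3, 3, 0],
  [3, 1, 2, 3, 1, 2],
  [3, 0, 3, 2, 0],
  [2, 3, 1, 2],
  [0, 0, 3, 0, 3, 3],
  [0, 3, 0, 1, 3, 3],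
  [0, 1, 3, 3, 2],
  [3, 0, 3, 1],
  [0, 3, 3, 3, 1, 0],
  [2, 0, 1, 2],
  [0, 3, 1, 0, 3, 3],
  [1, 0, 3, 3],
  [3, 2, 0, 1, 0],
  [3, 0, 0, 0, 0, 0],
  [0, 1, 0, 2, 3],
  [3, 0, 3, 3, 3, 0],
  [3, 1, 2, 3, 3],
  [0, 3, 0, 3, 2],
  [1, 3, 3, 0, 2],
  [0, 3, 3, 1, 3, 1],
  [0, 3, 3, 3, 3, 0],
  [2, 3, 0, 3, 0, 2],
  [2, 0, 3, 0, 0],
  [3, 0, 2, 1, 0],
  [1, 0, 3, 2, 3, 2],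
  [3, 0, 0, 3, 2],
  [0, 0, 2, 3, 2, 3, 2],
  [0, 3, 0, 3, 1, 3],
  [3, 3, 1, 3, 3, 3],
  [0, 3, 2, 0, 1, 2],
  [3, 3, 0, 0, 0, 1],
  [3, 2, 1],
  [0, 3, 2, 0, 3, 1, 0],
  [3, 1, 0, 3],
  [3, 0, 0, 3],
  [0, 1, 2, 0, 2, 3],
  [3, 3, 0, 3],
  [0, 3, 0, 1, 2],
  [1, 3, 2, 3, 0],
  [0, 3, 3, 3],
  [0, 0, 2, 3, 1],
  [3, 3, 1, 2, 0],
  [3, 1, 3, 2, 3],
  [3, 1, 2, 3, 3, 2],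
  [3, 2, 3, 0, 0],
  [2, 3, 3],
  [2, 0, 3],
  [0, 3, 0, 3, 3, 1],
  [3, 1, 3, 2, 1],
  [2, 3, 2, 1, 2],
  [0, 0, 3, 3],
  [0, 0, 3, 0, 2],
  [3, 3, 0, 3, 2],
  [0, 3, 3, 3, 3, 3],
  [1, 2, 3, 1, 3, 2],
  [0, 3, 1, 3, 1, 3],
  [0, 2, 3, 3, 1, 3, 1],
  [0, 3, 2, 3, 0, 3, 0],
  [0, 0, 0, 3, 3, 1],
  [1, 2, 0, 3, 3],
  [3, 3, 0, 0, 3, 1],
  [3, 3, 0, 1, 3, 3],
  [2, 3, 2, 1, 3, 1],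
  [0, 1, 3, 1, 3, 3, 2],
  [0, 0, 3, 2, 1, 3, 1],
  [0, 3, 0, 0],
  [1, 0, 3, 3, 2],
  [0, 3, 3, 3, 2],
  [0, 3, 3, 1],
  [2, 3, 2, 0, 3, 1],
  [3, 3, 0, 1],
  [0, 3, 2, 0, 1],
  [3, 3, 0, 0, 2],
  [3, 2, 3],
  [0, 3, 3, 2, 3],
  [0, 0, 0, 3, 0, 0],
  [1, 3, 3, 2, 3, 2],
  [2, 3, 0, 3, 1],
  [1, 3, 3, 3],
  [0, 3, 2, 1, 0, 2],
  [0, 1, 2, 3, 3, 0, 3],
  [0, 3, 2, 0, 0],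
  [1, 3, 2],
  [0, 1, 3, 2, 1, 2],
  [2, 0, 3, 3, 0],
  [3, 0, 2, 3, 3],
  [0, 1, 2, 3, 1],
  [2, 3, 1, 3, 1, 2],
  [0, 0, 3, 2, 3],
  [0, 0, 1, 3, 3, 3],
  [0, 3, 2, 1, 0],
  [1, 3, 3, 3, 2],
  [3, 2, 0, 3, 3, 2],
  [3, 1, 3, 1],
  [0, 0, 2, 3, 2, 0, 2],
  [3, 3, 3, 1],
  [0, 3, 1, 3, 2],
  [0, 3, 0, 3, 1, 0],
  [0, 0, 3, 0, 1, 3, 2],
  [0, 3, 0, 0, 0, 1],
  [0, 3, 3, 1, 2],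
  [0, 0, 3, 0, 0, 3],
  [3, 3, 2, 3, 3, 2],
  [0, 0, 3, 2, 0, 3, 0],
  [0, 0, 2, 3, 1, 2],
  [2, 3, 0, 3, 1, 2],
  [3, 3, 2, 3, 0],
  [3, 1, 2, 0, 3],
  [3, 3, 1, 0],
  [2, 3, 0, 3, 3],
  [0, 3, 2, 3, 1],
  [2, 3, 0, 1, 0, 2],
  [0, 3, 0, 3],
  [2, 3, 0, 3, 0],
  [0, 2, 3, 3, 0, 3, 0],
  [0, 1, 2, 3, 3, 2],
  [2, 0, 2, 3, 3, 3],
  [0, 3, 2, 3, 0, 3, 1],
  [3, 1, 3, 3, 3, 1],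
  [3, 0, 2, 3, 3, 2],
  [0, 0, 3, 1, 0, 3, 2],
  [0, 3, 0, 0, 0, 3],
  [3, 0],
  [0, 1, 0, 2, 3, 2],
  [2, 3, 2, 3, 3, 3],
  [0, 3, 0, 3, 3, 0],
  [0, 0, 0, 3, 3, 0, 2],
  [1, 2, 0, 3, 3, 2],
  [3, 3, 1, 0, 3, 3],
  [2, 3, 1, 3, 3, 2],
  [3, 0, 2, 1, 0, 2],
  [0, 3, 2, 1, 3],
  [0, 3, 3, 2, 3, 2],
  [0, 1, 3, 1, 3, 3],
  [3, 2, 3, 3, 3],
  [0, 3, 0, 3, 3, 3],
  [3, 3, 0, 1, 2],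
  [1, 2, 0, 2, 3, 3],
  [0, 0, 0, 3, 1, 0],
  [0, 3, 0, 2, 1],
  [3, 3, 0, 2, 1],
  [3, 0, 0, 0, 1, 3],
  [1, 0, 3, 3, 3, 3],
  [3, 3, 1, 3],
  [3, 0, 0, 0, 1, 0],
  [0, 3, 3, 0],
  [3, 2, 0, 2],
  [1, 2, 3, 3, 3, 2],
  [0, 0, 0, 3, 3, 3],
  [0, 3, 2, 3, 1, 0, 3],
  [0, 3, 3, 3, 0, 0],
  [1, 3, 2, 3, 3, 2],
  [1, 2, 3, 1, 3],
  [1, 3, 2, 3, 3],
  [0, 1, 3, 1],
  [0, 0, 3, 2, 0],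
  [0, 3, 0, 1],
  [2, 3, 0],
  [3, 2, 3, 1, 3, 2],
  [3, 0, 1, 0],
  [2, 3, 1],
  [2, 3, 0, 0, 3],
  [0, 0, 0, 1, 3, 1],
  [3, 3],
  [3, 0, 3, 3, 1, 3],
  [0, 0, 1, 3, 3, 0, 2],
  [0, 0, 3, 1, 2],
  [0, 0, 3, 2, 3, 2],
  [0, 0, 3, 2, 1, 2],
  [1, 3, 2, 3, 0, 2],
  [3, 3, 3, 0, 1, 0],
  [0, 0, 2, 3, 2, 1],
  [2, 3, 0, 2],
  [3, 1, 3, 3, 3, 3],
  [3, 3, 0, 1, 0, 3],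
  [3, 3, 2, 3, 3],
  [0, 1, 3, 3],
  [0, 2, 1, 2, 3, 3],
  [3, 3, 0, 0, 1, 0],
  [0, 3, 2, 3, 0, 2],
  [3, 0, 2, 1, 3],
  [2, 3, 0, 3, 3, 2],
  [2, 3, 2, 1],
  [0, 3, 3, 0, 2],
  [0, 1, 2, 3, 2, 1, 2],
  [0, 1, 3, 2, 3, 2],
  [0, 2, 3, 1, 3],
  [0, 2, 3, 3, 3, 3, 0],
  [0, 0, 0, 2, 3, 1, 0],
  [0, 3, 0, 0, 0, 1, 2],
  [2, 3, 0, 1, 0],
  [3, 0, 3, 0, 2],
  [3, 0, 3, 2, 1],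
  [2, 3, 1, 0, 3],
  [3, 3, 2],
  [2, 0, 2, 3, 1, 3],
  [0, 3, 1, 3, 3, 3],
  [0, 3, 2, 3, 3],
  [0, 3, 2, 3, 1, 2],
  [3, 0, 1, 0, 3, 2, 3]]

end Cfsg.Agent.Lib.LyC3
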