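import Cfsg.Agent.Lib.LyC3.UKernel
import Cfsg.Agent.Lib.LyC3.Nodes62Data
import Cfsg.Agent.Lib.LyDC.OrbitData

/-!
Boolean checks for the certificate data of the nodes.
-/

namespace Cfsg.Agent.Lib.LyC3

open Cfsg.Agent.Lib.LyDC

/-- the word of a product of listed words -/
noncomputable def catL (gl : List (List Nat)) (l : List Nat) : List Nat :=
  List.rec (motive := fun _ => List Nat) [] (fun k _ ih => nth [] gl k ++ ih) l

/-- generators of the stabiliser at node 2 -/
noncomputable def gens2 : List (List Nat) := fstL lev2_0G ++ fstL lev2_1G ++ fstL lev2_2G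

/-- generators of the stabiliser at node 3 -/
noncomputable def gens3 : List (List Nat) := fstL lev3_0G ++ fstL lev3_1G ++ fstL lev3_2G

/-- generators of the stabiliser at node 4 -/
noncomputable def gens4 : List (List Nat) := fstL lev4_0G ++ fstL lev4_1G

variable (D : NodeData) (gl : List (List Nat))

/-- the element of order three of the node -/
noncomputable def yW : List Nat := catL gl D.y

/-- generator `i` of the 3-subgroup -/
noncomputable def pgW (i : Nat) : List Nat := catL gl (nth [] D.pGens i)

/-- a product of generators of the 3-subgroup -/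
noncomputable def pCat (l : List Nat) : List Nat :=
  List.rec (motive := fun _ => List Nat) [] (fun k _ ih => pgW D gl k ++ ih) l

/-- element `k` of the 3-subgroup -/
noncomputable def pW (k : Nat) : List Nat := pCat D gl (nth [] D.pElems k)

/-- the conjugate is the conjugate by `h` -/
noncomputable def hOK : Bool := tabs.same base (D.h ++ yW D gl) (xW ++ D.h)

/-- row `k` of the multiplication table, and distinctness -/
noncomputable def pOK (k : Nat) : Bool :=
  band
    (rangeB (fun i => hold (nth 0 (nth [] D.pTab k) i) fun t =>
      band (Nat.blt t D.pord) (tabs.same base (pW D gl k ++ pgW D gl i) (pW D gl t)))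
      D.pGens.length 0)
    (rangeB (fun l => Bool.rec (motive := fun _ => Bool) true (Nat.beq k l)
      (Nat.beq (keyW (pW D gl k)) (keyW (pW D gl l)))) D.pord 0)

/-- an element of the 3-subgroup is trivial, conjugate to `y`, or without fixed points -/
noncomputable def pWitOK (k : Nat) : Bool :=
  hold (nth (0, [], []) D.pWit k).1 fun t =>
    Nat.rec (motive := fun _ => Bool) (tabs.same base (pW D gl k) [])
      (fun t' _ => Nat.rec (motive := fun _ => Bool)
        (tabs.same base (catL gl (nth (0, [], []) D.pWit k).2.2 ++ pW D gl k)
          (yW D gl ++ catL gl (nth (0, [], []) D.pWit k).2.2))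
        (fun _ _ => tabs.same base
          (((nth (0, [], []) D.pWit k).2.1 ++ catL gl (nth (0, [], []) D.pWit k).2.2) ++ pW D gl k)
          (rW ++ ((nth (0, [], []) D.pWit k).2.1 ++ catL gl (nth (0, [], []) D.pWit k).2.2))) t') t

/-- the `i`th conjugate -/
noncomputable def clsOK (i : Nat) : Bool :=
  band (tabs.same base (catL gl (nth [] D.clsS i) ++ nth [] D.clsY i)
      (yW D gl ++ catL gl (nth [] D.clsS i)))
    (Bool.rec (motive := fun _ => Bool) true
      (Nat.blt (keyW (nth [] D.clsY i)) (keyW (nth [] D.clsY (Nat.succ i))))
      (Nat.blt (Nat.succ i) D.k))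

/-- the `i`th element of the centraliser -/
noncomputable def centOK (i : Nat) : Bool :=
  band (tabs.same base (yW D gl ++ catL gl (nth [] D.cent i)) (catL gl (nth [] D.cent i) ++ yW D gl))
    (Bool.rec (motive := fun _ => Bool) true
      (Nat.blt (keyW (catL gl (nth [] D.cent i))) (keyW (catL gl (nth [] D.cent (Nat.succ i)))))
      (Nat.blt (Nat.succ i) D.d))

/-- all checks of a node -/
noncomputable def nodeOK : Bool :=
  band (hOK D gl) (band (Nat.beq (Nat.mul D.k D.d) D.ord)
    (band (eqLN (nth [0] D.pElems 0) [])
      (band (rangeB (pOK D gl) D.pord 0) (band (rangeB (pWitOK D gl) D.pord 0)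
        (band (rangeB (clsOK D gl) D.k 0) (rangeB (centOK D gl) D.d 0))))))

/-- the element of the rough kind moves the point -/
noncomputable def rMoves (p : Nat) : Bool :=
  Bool.rec (motive := fun _ => Bool) true false (Nat.beq (tabs.go rW p) p)

/-- tokens giving a conjugate of x that goes to a conjugate of x -/
noncomputable def tokXOK : Bool :=
  band (forallB (fun k => Nat.blt k 16) tokX)
    (band (tabs.same base (catL tokWords tokX) (nth [] classY 9))
      (tabs.same base (catL imgWords tokX) (nth [] classY 9)))

end Cfsg.Agent.Lib.LyC3
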