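import Cfsg.Agent.Lib.LyDC.Tables
import Cfsg.Agent.Lib.LyC3.UData

/-!
Boolean checks on the centraliser of an element of order three.
-/

namespace Cfsg.Agent.Lib.LyC3

open Cfsg.Agent.Lib.LyDC

/-- the word of a product of generators -/
noncomputable def catU (l : List Nat) : List Nat :=
  List.rec (motive := fun _ => List Nat) [] (fun k _ ih => nth [] ugens k ++ ih) l

/-- `n` copies of a word -/
noncomputable def repW (u : List Nat) (n : Nat) : List Nat :=
  Nat.rec (motive := fun _ => List Nat) [] (fun _ ih => u ++ ih) n

/-- the fixed point of index `i` -/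
noncomputable def fixAt (i : Nat) : Nat := at16 fixP i

/-- the word of the `i`th transversal element -/
noncomputable def transW (i : Nat) : List Nat := catU (nth [] transU i)

/-- the word of the `i`th element of the orbit list -/
noncomputable def orbW (i : Nat) : List Nat := catU (nth [] orbU i)

/-- the word of the `k`th of the 24 elements preserving two pairs -/
noncomputable def stabW (k : Nat) : List Nat :=
  Bool.rec (motive := fun _ => List Nat)
    (catU (nth [] stabU (Nat.sub k 12)) ++ catU swapU) (catU (nth [] stabU k)) (Nat.blt k 12)

/-- the pair of an index -/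
noncomputable def pairOf (i : Nat) : Nat := Nat.div i 2

/-- the point of the second base index -/
noncomputable def jPt : Nat := fixAt jIdx

/-- the images of the base under a word, as one number -/
noncomputable def keyW (u : List Nat) : Nat :=
  List.rec (motive := fun _ => Nat) 0 (fun p _ ih => Nat.add p (Nat.mul 65536 ih)) (tabs.mov u base)

/-- a fixed point is in the list -/
noncomputable def fixComplete (p : Nat) : Bool :=
  Bool.rec (motive := fun _ => Bool) true (memN p fixL) (Nat.beq (tabs.go xW p) p)

/-- the list is the packed one -/
noncomputable def fixListOK : Bool :=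
  band (Nat.beq fixL.length 252)
    (rangeB (fun i => band (Nat.beq (fixAt i) (nth 0 fixL i)) (Nat.blt (fixAt i) 19530)) 252 0)

/-- no point occurs twice -/
noncomputable def fixDistinct (i : Nat) : Bool :=
  rangeB (fun j => Bool.rec (motive := fun _ => Bool) true (Nat.beq i j)
    (Nat.beq (fixAt i) (fixAt j))) 252 0

/-- a generator commutes with x -/
noncomputable def commOK (k : Nat) : Bool :=
  tabs.same base (xW ++ nth [] ugens k) (nth [] ugens k ++ xW)

/-- a generator maps pairs to pairs as recorded -/
noncomputable def genPairOK (k : Nat) : Bool :=
  rangeB (fun i => hold (at16 (nth 0 genP k) i) fun j =>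
    band (Nat.blt j 252) (band (Nat.beq (tabs.go (nth [] ugens k) (fixAt i)) (fixAt j))
      (Nat.beq (tabs.go (nth [] ugens k) (fixAt (Nat.xor i 1))) (fixAt (Nat.xor j 1))))) 252 0

/-- a transversal element maps point 0 as recorded -/
noncomputable def transOK (i : Nat) : Bool := Nat.beq (tabs.go (transW i) 0) (fixAt i)

/-- an element of the orbit list fixes 0 and moves the second point into the next pair -/
noncomputable def orbOK (i : Nat) : Bool :=
  hold (at16 orbI i) fun j =>
    band (Nat.beq (tabs.go (orbW i) 0) 0) (band (Nat.beq (tabs.go (orbW i) jPt) (fixAt j))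
      (band (Nat.blt j 252) (Nat.beq (pairOf j) (Nat.succ i))))

/-- the first twelve fix both points and are distinct -/
noncomputable def stabOK (k : Nat) : Bool :=
  band (Nat.beq (tabs.go (stabW k) 0) 0) (band (Nat.beq (tabs.go (stabW k) jPt) jPt)
    (rangeB (fun l => Bool.rec (motive := fun _ => Bool) true (Nat.beq k l)
      (Nat.beq (keyW (stabW k)) (keyW (stabW l)))) 12 0))

/-- the exchanging element -/
noncomputable def swapOK : Bool :=
  band (Nat.beq (tabs.go (catU swapU) 0) (fixAt 1))
    (band (Nat.beq (tabs.go (catU swapU) jPt) (fixAt swapJ))
      (band (Nat.blt swapJ 252) (Nat.beq (pairOf swapJ) (pairOf jIdx))))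

/-- a power of x, or a moved pair -/
noncomputable def witOK (k : Nat) : Bool :=
  hold (nth (0, 0, 0) witU k).1 fun e => hold (nth (0, 0, 0) witU k).2.1 fun m =>
    hold (nth (0, 0, 0) witU k).2.2 fun j =>
      Bool.rec (motive := fun _ => Bool)
        (band (Nat.blt m 126) (band (Nat.blt j 252)
          (band (Nat.beq (tabs.go (stabW k) (fixAt (Nat.mul 2 m))) (fixAt j))
            (Bool.rec (motive := fun _ => Bool) true false (Nat.beq (pairOf j) m)))))
        (tabs.same base (stabW k) (repW xW e)) (Nat.blt e 3)

/-- the element of order five is a commutator -/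
noncomputable def commutatorOK : Bool :=
  tabs.same base (catU qU ++ catU pU ++ catU wU) (catU pU ++ catU qU)

/-- each generator is a conjugate of it -/
noncomputable def conjOK (k : Nat) : Bool :=
  tabs.same base (catU (nth [] conjU k) ++ nth [] ugens k) (catU wU ++ catU (nth [] conjU k))

/-- a word normalises the group of the element of order five -/
noncomputable def normOK (g : List Nat) (e : Nat) : Bool :=
  tabs.same base (catU wU ++ g) (g ++ repW (catU wU) e)

/-- the normalisation of the elements preserving the first pair -/
noncomputable def normAll : Bool :=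
  band (rangeB (fun k => normOK (catU (nth [] stabU k)) (nth 0 stabE k)) 12 0)
    (band (rangeB (fun i => normOK (orbW i) (nth 0 orbE i)) 125 0) (normOK (catU swapU) swapE))

/-- a conjugate under the stabiliser of point 0 -/
noncomputable def classOK (i : Nat) : Bool :=
  band (Nat.beq (tabs.go (nth [] classL i) 0) 0)
    (band (tabs.same base (nth [] classL i ++ nth [] classY i) (xW ++ nth [] classL i))
      (Bool.rec (motive := fun _ => Bool) true
        (Nat.blt (keyW (nth [] classY i)) (keyW (nth [] classY (Nat.succ i))))
        (Nat.blt (Nat.succ i) 200)))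

end Cfsg.Agent.Lib.LyC3
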